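import Mathlib

/-!
# Certificates for pruned coset enumerations with letters of any order

A certificate is a list of facts `x • q u = q v` between named cosets, each following from the earlier ones by a
relator. Letters come in pairs `x`, `x ^^^ 1` of mutually inverse elements; the letter `K` is the empty word.
A step of a path is a fact number times two, plus one when the fact is used backwards.
-/

set_option autoImplicit false
set_option linter.all false

noncomputable section

namespace Cfsg.Agent.Lib.ONMult

/-- A binary tree of numbers. -/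
inductive Tree where
  | leaf : ℕ → Tree
  | node : ℕ → Tree → Tree → Tree

/-- Lookup. -/
def Tree.get (t : Tree) : ℕ → ℕ :=
  Tree.rec (motive := fun _ => ℕ → ℕ) (fun v _ => v)
    (fun k _ _ a b i => Bool.rec (motive := fun _ => ℕ) (a i) (b (Nat.sub i k)) (Nat.ble k i)) t

def fU (s : ℕ) : ℕ := Nat.land s 1048575
def fV (s : ℕ) : ℕ := Nat.land (Nat.shiftRight s 20) 1048575
def fX (s : ℕ) : ℕ := Nat.land (Nat.shiftRight s 40) 63
def fKind (s : ℕ) : ℕ := Nat.land (Nat.shiftRight s 46) 3
def fR (s : ℕ) : ℕ := Nat.land (Nat.shiftRight s 48) 1023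
def fSplit (s : ℕ) : ℕ := Nat.land (Nat.shiftRight s 58) 255
def fLen (s : ℕ) : ℕ := Nat.land (Nat.shiftRight s 66) 255
def fM (s : ℕ) : ℕ := Nat.land (Nat.shiftRight s 74) 1048575
def fBody (s : ℕ) : ℕ := Nat.shiftRight s 94

/-- The inverse letter. -/
def linv (x : ℕ) : ℕ := Nat.xor x 1

def consLetter (K x : ℕ) (w : List ℕ) : List ℕ := cond (Nat.beq x K) w (x :: w)

/-- Put the inverse of a letter in front of a word. -/
def consInv (K x : ℕ) (w : List ℕ) : List ℕ := cond (Nat.beq x K) w (linv x :: w)

/-- Follow a packed path of earlier facts. -/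
def walk (K : ℕ) (t : Tree) (bound : ℕ) : ℕ → ℕ → ℕ → Option (ℕ × List ℕ × ℕ)
  | 0, body, cur => some (cur, [], body)
  | n + 1, body, cur =>
    let s := Nat.land body 2097151
    match Nat.blt (Nat.shiftRight s 1) bound with
    | false => none
    | true =>
      let f := t.get (Nat.shiftRight s 1)
      match Nat.beq (Nat.land s 1) 0 with
      | true => match Nat.beq (fU f) cur with
        | false => none
        | true => (walk K t bound n (Nat.shiftRight body 21) (fV f)).map
            fun p => (p.1, consLetter K (fX f) p.2.1, p.2.2)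
      | false => match Nat.beq (fV f) cur with
        | false => none
        | true => (walk K t bound n (Nat.shiftRight body 21) (fU f)).map
            fun p => (p.1, consInv K (fX f) p.2.1, p.2.2)

def beqList (l : List ℕ) : List ℕ → Bool :=
  List.rec (motive := fun _ => List ℕ → Bool) (fun m => List.rec (motive := fun _ => Bool) true (fun _ _ _ => false) m)
    (fun a _ ih m => List.rec (motive := fun _ => Bool) false (fun b m' _ => Nat.beq a b && ih m') m) l

theorem beqList_iff : ∀ {l m : List ℕ}, beqList l m = true → l = m
  | [], [], _ => rfl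
  | [], _ :: _, h => Bool.noConfusion h
  | _ :: _, [], h => Bool.noConfusion h
  | a :: l, b :: m, h => by
    have h' : (Nat.beq a b && beqList l m) = true := h
    simp only [Bool.and_eq_true] at h'
    rw [Nat.eq_of_beq_eq_true h'.1, beqList_iff h'.2]

def getWord (l : List (List ℕ)) : ℕ → List ℕ :=
  List.rec (motive := fun _ => ℕ → List ℕ) (fun _ => [])
    (fun w _ ih n => Bool.rec (motive := fun _ => List ℕ) (ih (Nat.sub n 1)) w (Nat.beq n 0)) l

theorem getWord_mem : ∀ {l : List (List ℕ)} {n : ℕ}, getWord l n ∈ l ∨ getWord l n = []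
  | [], _ => Or.inr rfl
  | w :: l, 0 => Or.inl List.mem_cons_self
  | w :: l, n + 1 => by
    rcases getWord_mem (l := l) (n := n) with h | h
    · exact Or.inl (List.mem_cons_of_mem _ h)
    · exact Or.inr h

/-- The data. -/
structure Cert where
  K : ℕ
  W : List (List ℕ)
  S : List (List ℕ)
  F : Tree
  N : ℕ

def nextM (s : ℕ) : ℕ := cond (Nat.beq (fKind s) 0) (Nat.succ (fM s)) (fM s)

/-- The justification of fact `i`. -/
def ruleOK (C : Cert) (i s : ℕ) : Bool :=
  match fKind s with
  | 0 => Nat.blt (fU s) (fM s) && Nat.beq (fV s) (fM s) && Nat.blt (fX s) C.K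
  | k + 1 =>
    Nat.blt (fU s) (fM s) && Nat.blt (fV s) (fM s) &&
    match walk C.K C.F i (fSplit s) (fBody s) (fU s) with
    | none => false
    | some (c, w1, body) =>
      match walk C.K C.F i (Nat.sub (fLen s) (fSplit s)) body c with
      | none => false
      | some (e, w2, _) => Nat.beq e (fV s) &&
        match k with
        | 0 => beqList (getWord C.W (fR s)) (w2 ++ consInv C.K (fX s) w1)
        | 1 => Nat.beq c 0 && beqList (getWord C.S (fR s)) (w2 ++ consInv C.K (fX s) w1)
        | _ => false

/-- The check of fact `i`. -/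
def stepOK (C : Cert) (i : ℕ) : Bool :=
  ruleOK C i (C.F.get i) &&
    (Nat.beq (Nat.succ i) C.N || Nat.beq (fM (C.F.get (Nat.succ i))) (nextM (C.F.get i)))

/-- The check of the facts in `[a, a+n)`. -/
def rangeOK (C : Cert) : ℕ → ℕ → Bool
  | _, 0 => true
  | a, n + 1 => stepOK C a && rangeOK C (Nat.succ a) n

theorem steps_zero (C : Cert) : ∀ i < 0, stepOK C i = true := fun i hi => absurd hi (by omega)

theorem rangeOK_spec (C : Cert) : ∀ n a, rangeOK C a n = true → ∀ i, a ≤ i → i < a + n → stepOK C i = true
  | 0, a, _, i, h1, h2 => absurd h2 (by omega)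
  | n + 1, a, h, i, h1, h2 => by
    simp only [rangeOK, Bool.and_eq_true] at h
    rcases Nat.eq_or_lt_of_le h1 with e | e
    · exact e ▸ h.1
    · exact rangeOK_spec C n (Nat.succ a) h.2 i e (by omega)

theorem steps_add {C : Cert} (a n : ℕ) (h : ∀ i < a, stepOK C i = true) (h' : rangeOK C a n = true) :
    ∀ i < a + n, stepOK C i = true := fun i hi =>
  (Nat.lt_or_ge i a).elim (h i) fun ha => rangeOK_spec C n a h' i ha hi

/-- Everything that has to be evaluated: the facts, and a path from coset 0 to itself reading `goal`. -/
structure Done (C : Cert) (goal : List ℕ) : Prop where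
  start : fM (C.F.get 0) = 1
  steps : ∀ i < C.N, stepOK C i = true
  loop : ∃ n body b, walk C.K C.F C.N n body 0 = some (0, goal, b)

section Sound

variable {G Q : Type*} [Group G] [MulAction G Q] (g : ℕ → G) (C : Cert) (q₀ : Q)

/-- The action of a word, first letter first. -/
def act : List ℕ → Q → Q
  | [], q => q
  | y :: w, q => act w (g y • q)

theorem act_append : ∀ (u v : List ℕ) (q : Q), act g (u ++ v) q = act g v (act g u q)
  | [], _, _ => rfl
  | _ :: u, v, q => act_append u v _

theorem act_injective : ∀ w : List ℕ, Function.Injective (act g (Q := Q) w)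
  | [] => fun _ _ h => h
  | y :: w => fun _ _ h => MulAction.injective (g y) (act_injective w h)

variable (q : ℕ → Q)

/-- The meaning of a fact. -/
def Valid (s : ℕ) : Prop := act g (consLetter C.K (fX s) []) (q (fU s)) = q (fV s)

theorem act_consLetter (x : ℕ) (w : List ℕ) (p : Q) :
    act g (consLetter C.K x w) p = act g w (act g (consLetter C.K x []) p) := by
  cases h : Nat.beq x C.K <;> simp [consLetter, h, act]

theorem act_consInv (x : ℕ) (w : List ℕ) (p : Q) :
    act g (consInv C.K x w) p = act g w (act g (consInv C.K x []) p) := by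
  cases h : Nat.beq x C.K <;> simp [consInv, h, act]

variable (hs : ∀ x, g x * g (linv x) = 1)
include hs

theorem cancel_back (x : ℕ) (a b : Q) (h : act g (consLetter C.K x []) a = b) :
    act g (consInv C.K x []) b = a := by
  subst h
  cases h : Nat.beq x C.K
  · simp [consLetter, consInv, h, act, eq_inv_of_mul_eq_one_right (hs x)]
  · simp [consLetter, consInv, h, act]

theorem cancel_fwd (x : ℕ) (a b : Q) (h : act g (consInv C.K x []) b = a) :
    act g (consLetter C.K x []) a = b := by
  subst h
  cases h : Nat.beq x C.K
  · simp [consLetter, consInv, h, act, eq_inv_of_mul_eq_one_right (hs x)]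
  · simp [consLetter, consInv, h, act]

theorem walk_sound {i : ℕ} (hv : ∀ j < i, Valid g C q (C.F.get j)) :
    ∀ (n body cur : ℕ) {c : ℕ} {w : List ℕ} {b : ℕ}, walk C.K C.F i n body cur = some (c, w, b) →
      act g w (q cur) = q c := by
  intro n
  induction n with
  | zero =>
    intro body cur c w b h
    simp only [walk, Option.some.injEq, Prod.mk.injEq] at h
    obtain ⟨rfl, rfl, -⟩ := h
    rfl
  | succ n ih =>
    intro body cur c w b h
    simp only [walk] at h
    split at h
    · exact absurd h (by simp)
    · next hlt =>
      have hj : Nat.shiftRight (Nat.land body 2097151) 1 < i := by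
        simpa [Nat.blt] using hlt
      have hvj := hv _ hj
      split at h
      · split at h
        · exact absurd h (by simp)
        · next hu =>
          rw [Option.map_eq_some_iff] at h
          obtain ⟨⟨c', w', b'⟩, hw, he⟩ := h
          simp only [Prod.mk.injEq] at he
          obtain ⟨rfl, rfl, -⟩ := he
          rw [act_consLetter, ← Nat.eq_of_beq_eq_true hu, hvj]
          exact ih _ _ hw
      · split at h
        · exact absurd h (by simp)
        · next hu =>
          rw [Option.map_eq_some_iff] at h
          obtain ⟨⟨c', w', b'⟩, hw, he⟩ := h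
          simp only [Prod.mk.injEq] at he
          obtain ⟨rfl, rfl, -⟩ := he
          rw [act_consInv, ← Nat.eq_of_beq_eq_true hu, cancel_back g C hs _ _ _ hvj]
          exact ih _ _ hw

/-- The hypotheses on the generators. -/
structure Sat : Prop where
  rel : ∀ w ∈ C.W, ∀ q : Q, act g w q = q
  sub : ∀ w ∈ C.S, act g w q₀ = q₀

omit hs in
theorem valid_update {s : ℕ} {M : ℕ} (p : Q) (h : Valid g C q s) (hu : fU s < M) (hv : fV s < M) :
    Valid g C (Function.update q M p) s := by
  unfold Valid at h ⊢
  rw [Function.update_of_ne (by omega), Function.update_of_ne (by omega)]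
  exact h

theorem exists_naming (hC : Sat g C q₀) (h0 : fM (C.F.get 0) = 1) (hall : ∀ i < C.N, stepOK C i = true) :
    ∃ q : ℕ → Q, q 0 = q₀ ∧ ∀ j < C.N, Valid g C q (C.F.get j) := by
  suffices key : ∀ i, i ≤ C.N → ∃ (q : ℕ → Q) (M : ℕ), q 0 = q₀ ∧ 0 < M ∧ (i < C.N → fM (C.F.get i) = M) ∧
      ∀ j < i, Valid g C q (C.F.get j) ∧ fU (C.F.get j) < M ∧ fV (C.F.get j) < M by
    obtain ⟨q, _, hq0, _, _, hq⟩ := key C.N le_rfl
    exact ⟨q, hq0, fun j hj => (hq j hj).1⟩
  intro i
  induction i with
  | zero => exact fun _ => ⟨fun _ => q₀, 1, rfl, one_pos, fun _ => h0, fun j hj => absurd hj (by omega)⟩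
  | succ i ih =>
    intro hi
    obtain ⟨q, M, hq0, hMpos, hM, hq⟩ := ih (by omega)
    have hM' := hM (by omega)
    have hok := hall i (by omega)
    simp only [stepOK, Bool.and_eq_true, Bool.or_eq_true] at hok
    obtain ⟨hrule, hnext⟩ := hok
    have hnext' : i + 1 < C.N → fM (C.F.get (i + 1)) = nextM (C.F.get i) := fun h => by
      rcases hnext with e | e
      · have := Nat.eq_of_beq_eq_true e
        omega
      · exact Nat.eq_of_beq_eq_true e
    generalize hseq : C.F.get i = s at hrule hnext' hM'
    unfold ruleOK at hrule
    cases hk : fKind s with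
    | zero =>
      rw [hk] at hrule
      simp only [Bool.and_eq_true] at hrule
      obtain ⟨⟨hu, hv⟩, -⟩ := hrule
      have hu' : fU s < M := hM' ▸ (by simpa [Nat.blt] using hu)
      have hv' : fV s = M := (Nat.eq_of_beq_eq_true hv).trans hM'
      refine ⟨Function.update q M (act g (consLetter C.K (fX s) []) (q (fU s))), M + 1, ?_, by omega, ?_, ?_⟩
      · rw [Function.update_of_ne (by omega)]; exact hq0
      · intro h
        rw [hnext' h, nextM, hk, hM']
        rfl
      · intro j hj
        rcases Nat.lt_succ_iff_lt_or_eq.mp hj with hj | rfl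
        · obtain ⟨h1, h2, h3⟩ := hq j hj
          exact ⟨valid_update g C q _ h1 h2 h3, by omega, by omega⟩
        · rw [hseq]
          refine ⟨?_, by omega, by omega⟩
          unfold Valid
          rw [hv', Function.update_self, Function.update_of_ne (by omega)]
    | succ k =>
      rw [hk] at hrule
      simp only [Bool.and_eq_true] at hrule
      obtain ⟨⟨hu, hv⟩, hrest⟩ := hrule
      have hu' : fU s < M := hM' ▸ (by simpa [Nat.blt] using hu)
      have hv' : fV s < M := hM' ▸ (by simpa [Nat.blt] using hv)
      refine ⟨q, M, hq0, hMpos, ?_, ?_⟩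
      · intro h
        rw [hnext' h, nextM, hk, hM']
        rfl
      intro j hj
      rcases Nat.lt_succ_iff_lt_or_eq.mp hj with hj | rfl
      · exact hq j hj
      rw [hseq]
      refine ⟨?_, hu', hv'⟩
      have hval : ∀ l < j, Valid g C q (C.F.get l) := fun l hl => (hq l hl).1
      split at hrest
      · exact absurd hrest (by simp)
      · next c w1 body hw1 =>
        split at hrest
        · exact absurd hrest (by simp)
        · next e w2 b hw2 =>
          simp only [Bool.and_eq_true] at hrest
          obtain ⟨he, hrest⟩ := hrest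
          have e1 := walk_sound g C q hs hval _ _ _ hw1
          have e2 := walk_sound g C q hs hval _ _ _ hw2
          rw [Nat.eq_of_beq_eq_true he] at e2
          have hloop : ∀ W : List ℕ, W = w2 ++ consInv C.K (fX s) w1 → act g W (q c) = q c →
              Valid g C q s := by
            intro W hW hfix
            rw [hW, act_append, e2, act_consInv, ← e1] at hfix
            exact cancel_fwd g C hs _ _ _ (act_injective g w1 hfix)
          split at hrest
          · refine hloop _ (beqList_iff hrest) ?_
            rcases getWord_mem (l := C.W) (n := fR s) with h | h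
            · exact hC.rel _ h _
            · rw [h]; rfl
          · simp only [Bool.and_eq_true] at hrest
            obtain ⟨hc, hrest⟩ := hrest
            refine hloop _ (beqList_iff hrest) ?_
            rw [Nat.eq_of_beq_eq_true hc, hq0]
            rcases getWord_mem (l := C.S) (n := fR s) with h | h
            · exact hC.sub _ h
            · rw [h]; rfl
          · exact absurd hrest (by simp)

theorem act_goal {goal : List ℕ} (hD : Done C goal) (hC : Sat g C q₀) : act g goal q₀ = q₀ := by
  obtain ⟨q, hq0, hq⟩ := exists_naming g C q₀ hs hC hD.start hD.steps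
  obtain ⟨n, body, b, h⟩ := hD.loop
  have := walk_sound g C q hs hq _ _ _ h
  rwa [hq0] at this

end Sound

/-- In a group whose letters satisfy the relators, the goal lies in every subgroup containing the words in `S`. -/
theorem Done.prod_mem {C : Cert} {goal : List ℕ} (hD : Done C goal) {E : Type*} [Group E] (e : ℕ → E)
    (he : ∀ x, e x * e (linv x) = 1) (hW : ∀ w ∈ C.W, (w.map e).prod = 1) (H : Subgroup E)
    (hS : ∀ w ∈ C.S, (w.map e).prod ∈ H) : (goal.map e).prod ∈ H := by
  have hact : ∀ (w : List ℕ) (p : E ⧸ H), act (fun x => (e x)⁻¹) w p = (w.map e).prod⁻¹ • p := by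
    intro w
    induction w with
    | nil => intro p; simp [act]
    | cons y w ih => intro p; simp [act, ih, mul_smul]
  have hg : ∀ x, (e x)⁻¹ * (e (linv x))⁻¹ = 1 := fun x => by
    rw [eq_inv_of_mul_eq_one_right (he x)]
    simp
  have hC : Sat (fun x => (e x)⁻¹) C ((1 : E) : E ⧸ H) := by
    constructor
    · intro w hw p
      rw [hact, hW w hw, inv_one, one_smul]
    · intro w hw
      rw [hact, MulAction.Quotient.smul_mk, QuotientGroup.eq]
      simpa using hS w hw
  have h := act_goal (fun x => (e x)⁻¹) C ((1 : E) : E ⧸ H) hg hD hC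
  rw [hact, MulAction.Quotient.smul_mk, QuotientGroup.eq] at h
  simpa using h

end Cfsg.Agent.Lib.ONMult
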