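import Cfsg.Agent.Lib.ONMult.Relations
import Cfsg.Agent.Lib.ON45.Cover
import Cfsg.Agent.Lib.ONCover.Main

/-!
# Lifts of the generators to a central extension of the presented O'Nan group
-/

set_option autoImplicit false

namespace Cfsg.Agent.Lib.ONMult

open Cfsg.Spor

universe u

/-- The relators of the presentation. -/
abbrev rels : Set (FreeGroup ON.Gen) := coxRelators ON.edges ∪ {r | r ∈ ON.extra}

/-- The letters `a, …, g` as words. -/
def seq {K : Type u} (x : ON.Gen → K) : List K := [x .a, x .b, x .c, x .d, x .e, x .f, x .g]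

variable {K : Type u} [Group K] (σ : K →* ON)

theorem comp_lift (x : ON.Gen → K) (hx : ∀ s, σ (x s) = PresentedGroup.of s) :
    σ.comp (FreeGroup.lift x) = PresentedGroup.mk rels :=
  FreeGroup.ext_hom _ _ fun a => by simp [hx, PresentedGroup.of]

theorem lift_mem_ker (x : ON.Gen → K) (hx : ∀ s, σ (x s) = PresentedGroup.of s) {w : FreeGroup ON.Gen}
    (hw : PresentedGroup.mk rels w = 1) : FreeGroup.lift x w ∈ σ.ker := by
  rw [MonoidHom.mem_ker, ← MonoidHom.comp_apply, comp_lift σ x hx]
  exact hw

theorem lift_rel_mem_ker (x : ON.Gen → K) (hx : ∀ s, σ (x s) = PresentedGroup.of s) {w : FreeGroup ON.Gen}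
    (hw : w ∈ rels) : FreeGroup.lift x w ∈ σ.ker :=
  lift_mem_ker σ x hx (PresentedGroup.one_of_mem hw)

/-- If lifts satisfy every relator, a perfect central extension is trivial. -/
theorem ker_eq_bot_of_rels (hc : σ.ker ≤ Subgroup.center K)
    (hperf : commutator K = ⊤) (x : ON.Gen → K) (hx : ∀ s, σ (x s) = PresentedGroup.of s)
    (hr : ∀ r ∈ rels, FreeGroup.lift x r = 1) : σ.ker = ⊥ := by
  let θ : ON →* K := PresentedGroup.toGroup (f := x) hr
  have hθσ : ∀ y, σ (θ y) = y := fun y => by
    have : σ.comp θ = MonoidHom.id ON := PresentedGroup.ext fun s => by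
      rw [MonoidHom.comp_apply, PresentedGroup.toGroup.of, hx]; rfl
    exact DFunLike.congr_fun this y
  have hsplit : ∀ p : K, ∃ r ∈ θ.range, ∃ c ∈ Subgroup.center K, p = r * c := fun p =>
    ⟨θ (σ p), ⟨_, rfl⟩, (θ (σ p))⁻¹ * p, hc (by rw [MonoidHom.mem_ker, map_mul, map_inv, hθσ, inv_mul_cancel]),
      by group⟩
  have hle : commutator K ≤ θ.range := by
    rw [commutator_def, Subgroup.commutator_le]
    intro p _ q _
    obtain ⟨r, hr, c, hc, rfl⟩ := hsplit p
    obtain ⟨s, hs, d, hd, rfl⟩ := hsplit q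
    rw [commutatorElement_def, mul_inv_rev, mul_inv_rev]
    have ec := Subgroup.mem_center_iff.mp hc
    have ed := Subgroup.mem_center_iff.mp hd
    have : r * c * (s * d) * (c⁻¹ * r⁻¹) * (d⁻¹ * s⁻¹) = r * s * r⁻¹ * s⁻¹ := by
      calc r * c * (s * d) * (c⁻¹ * r⁻¹) * (d⁻¹ * s⁻¹)
          = r * ((c * s) * d * c⁻¹) * r⁻¹ * d⁻¹ * s⁻¹ := by group
        _ = r * ((s * c) * d * c⁻¹) * r⁻¹ * d⁻¹ * s⁻¹ := by rw [← ec s]
        _ = r * (s * (c * d) * c⁻¹) * r⁻¹ * d⁻¹ * s⁻¹ := by group
        _ = r * (s * (d * c) * c⁻¹) * r⁻¹ * d⁻¹ * s⁻¹ := by rw [ed c]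
        _ = r * s * (d * r⁻¹) * d⁻¹ * s⁻¹ := by group
        _ = r * s * (r⁻¹ * d) * d⁻¹ * s⁻¹ := by rw [ed r⁻¹]
        _ = r * s * r⁻¹ * s⁻¹ := by group
    rw [this]
    exact mul_mem (mul_mem (mul_mem hr hs) (inv_mem hr)) (inv_mem hs)
  rw [eq_bot_iff]
  intro p hp
  obtain ⟨y, hy⟩ := (eq_top_iff.mp hperf).trans hle (Subgroup.mem_top p)
  rw [Subgroup.mem_bot, ← hy]
  have h1 : σ p = 1 := hp
  rw [← hy, hθσ] at h1
  rw [h1, map_one]

/-- The value of a relator given by its number. -/
def value (x : ON.Gen → K) (i : ℕ) : K := ((baseWords.getD i []).map (val (seq x))).prod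

/-- The letters as elements of the free group. -/
def fval : ℕ → FreeGroup ON.Gen := val (seq fun s => FreeGroup.of s)

theorem lift_fval (x : ON.Gen → K) (w : List ℕ) :
    FreeGroup.lift x ((w.map fval).prod) = (w.map (val (seq x))).prod := by
  rw [map_list_prod, List.map_map]
  congr 1
  refine List.map_congr_left fun y _ => ?_
  have h : (FreeGroup.lift x) ((seq fun s => FreeGroup.of s).getD (y / 2) 1) = (seq x).getD (y / 2) 1 := by
    rcases (show y / 2 = 0 ∨ y / 2 = 1 ∨ y / 2 = 2 ∨ y / 2 = 3 ∨ y / 2 = 4 ∨ y / 2 = 5 ∨ y / 2 = 6 ∨ 7 ≤ y / 2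
      by omega) with e | e | e | e | e | e | e | e <;> first
      | (rw [e]; simp [seq])
      | rw [List.getD_eq_default _ _ (by simpa [seq] using e), List.getD_eq_default _ _ (by simpa [seq] using e),
          map_one]
  simp only [Function.comp, fval, val]
  split
  · exact h
  · rw [map_inv, h]

/-- The relator of a number as an element of the free group. -/
def word (i : ℕ) : FreeGroup ON.Gen := ((baseWords.getD i []).map fval).prod

theorem value_eq (x : ON.Gen → K) (i : ℕ) : value x i = FreeGroup.lift x (word i) := (lift_fval x _).symm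

/-- The generators of the Coxeter diagram by number. -/
def node : ℕ → ON.Gen
  | 0 => .a | 1 => .b | 2 => .c | 3 => .d | 4 => .e | _ => .f

theorem cox_word_mem (i j : ℕ) :
    (FreeGroup.of (node i) * FreeGroup.of (node j)) ^ coxLabel ON.edges (node i) (node j) ∈ rels :=
  Or.inl ⟨node i, by rcases i with _ | _ | _ | _ | _ | i <;> simp only [node] <;> decide, node j,
    by rcases j with _ | _ | _ | _ | _ | j <;> simp only [node] <;> decide, rfl⟩

/-- Which relator of the presentation has which number. -/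
theorem word_twelve :
    word 21 = ON.a * ON.f * (ON.g ^ 2)⁻¹ ∧ word 22 = ON.a * ON.f * ((ON.c * ON.d) ^ 4)⁻¹ ∧
    word 23 = ON.c * ((ON.d * ON.g * ON.d * ON.g)⁻¹ * ON.c * (ON.d * ON.g * ON.d * ON.g)) ∧
    word 24 = ON.d * ((ON.c * ON.g * ON.c * ON.g)⁻¹ * ON.d * (ON.c * ON.g * ON.c * ON.g)) ∧
    word 25 = (ON.b * ON.c * ON.d * ON.g) ^ 5 ∧
    word 26 = ON.g * ON.b * (ON.c⁻¹ * ON.g * ON.c) * (ON.b⁻¹ * ON.g * ON.b) * (ON.c⁻¹ * ON.g * ON.c) ∧
    word 27 = ON.g * ON.e * (ON.d⁻¹ * ON.g * ON.d) * (ON.e⁻¹ * ON.g * ON.e) * (ON.d⁻¹ * ON.g * ON.d) ∧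
    word 28 = ON.g ^ 4 := by
  refine ⟨?_, ?_, ?_, ?_, ?_, ?_, ?_, ?_⟩ <;>
    simp [word, baseWords, fval, val, seq, ON.a, ON.b, ON.c, ON.d, ON.e, ON.f, ON.g, pow_succ, mul_assoc]

theorem mk_word (i : ℕ) (hi : i < 29) : PresentedGroup.mk rels (word i) = 1 := by
  obtain ⟨e1, e2, e3, e4, e5, e6, e7, e8⟩ := word_twelve
  have ex : ∀ w, w ∈ ON.extra → PresentedGroup.mk rels w = 1 := fun w hw => PresentedGroup.one_of_mem (Or.inr hw)
  rcases (show i < 21 ∨ i = 21 ∨ i = 22 ∨ i = 23 ∨ i = 24 ∨ i = 25 ∨ i = 26 ∨ i = 27 ∨ i = 28 by omega) with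
    h | h | h | h | h | h | h | h | h
  · have key : ∀ a b m, coxLabel ON.edges (node a) (node b) = m →
        PresentedGroup.mk rels ((List.replicate m [2 * a, 2 * b]).flatten.map fval).prod =
          PresentedGroup.mk rels ((FreeGroup.of (node a) * FreeGroup.of (node b)) ^ m) → a < 6 → b < 6 →
        PresentedGroup.mk rels ((List.replicate m [2 * a, 2 * b]).flatten.map fval).prod = 1 := fun a b m hm e _ _ => by
      rw [e, ← hm]; exact PresentedGroup.one_of_mem (cox_word_mem a b)
    have sqr : ∀ a, a < 6 → PresentedGroup.mk rels ((FreeGroup.of (node a) * FreeGroup.of (node a))) = 1 := by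
      intro a _
      have h := PresentedGroup.one_of_mem (cox_word_mem a a)
      rwa [show coxLabel ON.edges (node a) (node a) = 1 from if_pos rfl, pow_one] at h
    have cx : ∀ a b m, coxLabel ON.edges (node a) (node b) = m →
        PresentedGroup.mk rels ((FreeGroup.of (node a) * FreeGroup.of (node b)) ^ m) = 1 := fun a b m hm =>
      hm ▸ PresentedGroup.one_of_mem (cox_word_mem a b)
    interval_cases i
    on_goal 1 => simpa [word, baseWords, fval, val, seq, node] using sqr 0 (by decide)
    on_goal 1 => simpa [word, baseWords, fval, val, seq, node] using sqr 1 (by decide)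
    on_goal 1 => simpa [word, baseWords, fval, val, seq, node] using sqr 2 (by decide)
    on_goal 1 => simpa [word, baseWords, fval, val, seq, node] using sqr 3 (by decide)
    on_goal 1 => simpa [word, baseWords, fval, val, seq, node] using sqr 4 (by decide)
    on_goal 1 => simpa [word, baseWords, fval, val, seq, node] using sqr 5 (by decide)
    on_goal 1 => simpa [word, baseWords, fval, val, seq, node, pow_succ, mul_assoc] using cx 0 1 3 (by decide)
    on_goal 1 => simpa [word, baseWords, fval, val, seq, node, pow_succ, mul_assoc] using cx 0 2 2 (by decide)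
    on_goal 1 => simpa [word, baseWords, fval, val, seq, node, pow_succ, mul_assoc] using cx 0 3 2 (by decide)
    on_goal 1 => simpa [word, baseWords, fval, val, seq, node, pow_succ, mul_assoc] using cx 0 4 2 (by decide)
    on_goal 1 => simpa [word, baseWords, fval, val, seq, node, pow_succ, mul_assoc] using cx 0 5 2 (by decide)
    on_goal 1 => simpa [word, baseWords, fval, val, seq, node, pow_succ, mul_assoc] using cx 1 2 3 (by decide)
    on_goal 1 => simpa [word, baseWords, fval, val, seq, node, pow_succ, mul_assoc] using cx 1 3 2 (by decide)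
    on_goal 1 => simpa [word, baseWords, fval, val, seq, node, pow_succ, mul_assoc] using cx 1 4 2 (by decide)
    on_goal 1 => simpa [word, baseWords, fval, val, seq, node, pow_succ, mul_assoc] using cx 1 5 2 (by decide)
    on_goal 1 => simpa [word, baseWords, fval, val, seq, node, pow_succ, mul_assoc] using cx 2 3 8 (by decide)
    on_goal 1 => simpa [word, baseWords, fval, val, seq, node, pow_succ, mul_assoc] using cx 2 4 2 (by decide)
    on_goal 1 => simpa [word, baseWords, fval, val, seq, node, pow_succ, mul_assoc] using cx 2 5 2 (by decide)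
    on_goal 1 => simpa [word, baseWords, fval, val, seq, node, pow_succ, mul_assoc] using cx 3 4 3 (by decide)
    on_goal 1 => simpa [word, baseWords, fval, val, seq, node, pow_succ, mul_assoc] using cx 3 5 2 (by decide)
    on_goal 1 => simpa [word, baseWords, fval, val, seq, node, pow_succ, mul_assoc] using cx 4 5 3 (by decide)
  all_goals subst h
  · rw [e1]; exact ex _ (by simp [ON.extra])
  · rw [e2]; exact ex _ (by simp [ON.extra])
  · rw [e3]; exact ex _ (by simp [ON.extra])
  · rw [e4]; exact ex _ (by simp [ON.extra])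
  · rw [e5]; exact ex _ (by simp [ON.extra])
  · rw [e6]; exact ex _ (by simp [ON.extra])
  · rw [e7]; exact ex _ (by simp [ON.extra])
  · have h1 : PresentedGroup.mk rels (ON.a * ON.f) = PresentedGroup.mk rels (ON.g ^ 2) := by
      have := ex (ON.a * ON.f * (ON.g ^ 2)⁻¹) (by simp [ON.extra])
      rw [map_mul, map_inv, mul_inv_eq_one] at this
      exact this
    have h2 : PresentedGroup.mk rels ((ON.a * ON.f) ^ 2) = 1 := by
      have := PresentedGroup.one_of_mem (cox_word_mem 0 5)
      rwa [show coxLabel ON.edges (node 0) (node 5) = 2 from by decide] at this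
    rw [map_pow, h1, ← map_pow, ← pow_mul] at h2
    rw [e8]
    exact h2

theorem value_mem_ker (x : ON.Gen → K) (hx : ∀ s, σ (x s) = PresentedGroup.of s) {i : ℕ} (hi : i < 29) :
    value x i ∈ σ.ker := by
  rw [value_eq]
  exact lift_mem_ker σ x hx (mk_word i hi)

theorem value_pairs (x : ON.Gen → K) (y : Fin 6) (h : value x y.val = 1) : x (node y.val) * x (node y.val) = 1 := by
  fin_cases y <;> simpa [value, baseWords, val, seq, node] using h

/-- If all the values are trivial then every relator holds. -/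
theorem rels_of_values (x : ON.Gen → K) (h : ∀ i < 28, value x i = 1) : ∀ r ∈ rels, FreeGroup.lift x r = 1 := by
  have hw : ∀ i < 28, FreeGroup.lift x (word i) = 1 := fun i hi => (value_eq x i).symm.trans (h i hi)
  have hs : ∀ s, s ≠ .g → x s * x s = 1 := by
    intro s hs
    have q : ∀ i : Fin 6, x (node i.val) * x (node i.val) = 1 := fun i => value_pairs x i (h i.val (by omega))
    cases s
    exacts [absurd rfl hs, q 0, q 1, q 2, q 3, q 4, q 5]
  rintro r (⟨p, hp, q, hq, rfl⟩ | hr)
  · have hp' : p ≠ .g := by rintro rfl; exact absurd hp (by decide)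
    have hq' : q ≠ .g := by rintro rfl; exact absurd hq (by decide)
    rw [map_pow, map_mul, FreeGroup.lift_apply_of, FreeGroup.lift_apply_of]
    have pr : ∀ i a b m, value x i = 1 → value x i = (x a * x b) ^ m → (x a * x b) ^ m = 1 := fun _ _ _ _ e e' =>
      e'.symm.trans e
    have ab : (x .a * x .b) ^ 3 = 1 := pr 6 _ _ _ (h 6 (by omega)) (by simp [value, baseWords, val, seq, pow_succ, mul_assoc])
    have ac : (x .a * x .c) ^ 2 = 1 := pr 7 _ _ _ (h 7 (by omega)) (by simp [value, baseWords, val, seq, pow_succ, mul_assoc])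
    have ad : (x .a * x .d) ^ 2 = 1 := pr 8 _ _ _ (h 8 (by omega)) (by simp [value, baseWords, val, seq, pow_succ, mul_assoc])
    have ae : (x .a * x .e) ^ 2 = 1 := pr 9 _ _ _ (h 9 (by omega)) (by simp [value, baseWords, val, seq, pow_succ, mul_assoc])
    have af : (x .a * x .f) ^ 2 = 1 := pr 10 _ _ _ (h 10 (by omega)) (by simp [value, baseWords, val, seq, pow_succ, mul_assoc])
    have bc : (x .b * x .c) ^ 3 = 1 := pr 11 _ _ _ (h 11 (by omega)) (by simp [value, baseWords, val, seq, pow_succ, mul_assoc])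
    have bd : (x .b * x .d) ^ 2 = 1 := pr 12 _ _ _ (h 12 (by omega)) (by simp [value, baseWords, val, seq, pow_succ, mul_assoc])
    have be : (x .b * x .e) ^ 2 = 1 := pr 13 _ _ _ (h 13 (by omega)) (by simp [value, baseWords, val, seq, pow_succ, mul_assoc])
    have bf : (x .b * x .f) ^ 2 = 1 := pr 14 _ _ _ (h 14 (by omega)) (by simp [value, baseWords, val, seq, pow_succ, mul_assoc])
    have cd : (x .c * x .d) ^ 8 = 1 := pr 15 _ _ _ (h 15 (by omega)) (by simp [value, baseWords, val, seq, pow_succ, mul_assoc])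
    have ce : (x .c * x .e) ^ 2 = 1 := pr 16 _ _ _ (h 16 (by omega)) (by simp [value, baseWords, val, seq, pow_succ, mul_assoc])
    have cf : (x .c * x .f) ^ 2 = 1 := pr 17 _ _ _ (h 17 (by omega)) (by simp [value, baseWords, val, seq, pow_succ, mul_assoc])
    have de : (x .d * x .e) ^ 3 = 1 := pr 18 _ _ _ (h 18 (by omega)) (by simp [value, baseWords, val, seq, pow_succ, mul_assoc])
    have df : (x .d * x .f) ^ 2 = 1 := pr 19 _ _ _ (h 19 (by omega)) (by simp [value, baseWords, val, seq, pow_succ, mul_assoc])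
    have ef : (x .e * x .f) ^ 3 = 1 := pr 20 _ _ _ (h 20 (by omega)) (by simp [value, baseWords, val, seq, pow_succ, mul_assoc])
    have sw := fun {u v : ON.Gen} {n : ℕ} (hu : u ≠ .g) (hv : v ≠ .g) (e : (x u * x v) ^ n = 1) =>
      ONCover.Lift.pow_swap (hs u hu) (hs v hv) e
    cases p <;> cases q <;> first
      | exact absurd rfl hp'
      | exact absurd rfl hq'
      | (simp only [coxLabel, ON.edges]
         first
          | simpa using hs _ hp'
          | assumption
          | exact sw (by decide) (by decide) (by assumption))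
  · obtain ⟨e1, e2, e3, e4, e5, e6, e7, -⟩ := word_twelve
    simp only [ON.extra, Set.mem_setOf_eq, List.mem_cons, List.not_mem_nil, or_false] at hr
    rcases hr with rfl | rfl | rfl | rfl | rfl | rfl | rfl
    exacts [e1 ▸ hw 21 (by omega), e2 ▸ hw 22 (by omega), e3 ▸ hw 23 (by omega), e4 ▸ hw 24 (by omega),
      e5 ▸ hw 25 (by omega), e6 ▸ hw 26 (by omega), e7 ▸ hw 27 (by omega)]

/-- What a certificate proves about the values. -/
theorem mem_of_step {C : Cert} (hD : Done C [0]) (cls : List ℕ) (reps : List ℕ) (k : ℕ) (sq : Bool)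
    (subs : List (List ℕ)) (x : ON.Gen → K)
    (hC : C.W.all (okRel reps.length cls k sq) = true)
    (hCS : C.S = subs.map fun w => w.map (· + 2 * (reps.length + 1)))
    (hpos : 0 < reps.length)
    (hcen : ∀ i ∈ reps, value x i ∈ Subgroup.center K)
    (hsq : sq = true → ∀ i ∈ reps, value x i * value x i = 1)
    (hrel : ∀ i < 29, cls.getD i (reps.length + 1) ≤ reps.length →
      value x i = (1 :: reps.map (value x)).getD (cls.getD i (reps.length + 1)) 1)
    (H : Subgroup K) (hS : ∀ w ∈ subs, (w.map (val (seq x))).prod ∈ H) :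
    value x (reps.getD 0 0) ^ k ∈ H := by
  have hy : value x (reps.getD 0 0) = (reps.map (value x)).getD 0 1 := by
    cases reps with
    | nil => simp at hpos
    | cons a l => rfl
  rw [hy]
  refine Done.mem_of_relations _ (reps.map (value x)) (seq x) hD cls k sq subs (by simpa using hC)
    (by simpa using hCS) (by simpa using hpos) rfl ?_ ?_ (by simpa [value] using hrel) H hS
  · intro v hv
    obtain ⟨i, hi, rfl⟩ := List.mem_map.mp hv
    exact hcen i hi
  · intro hs v hv
    obtain ⟨i, hi, rfl⟩ := List.mem_map.mp hv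
    exact hsq hs i hi

end Cfsg.Agent.Lib.ONMult
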