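import Cfsg.Agent.Lib.ONMult.Lifts

/-!
# The presented O'Nan group does not collapse
-/

set_option autoImplicit false

namespace Cfsg.Agent.Lib.ONMult

open Cfsg.Spor

theorem commutator_ON : commutator ON = ⊤ := by
  obtain ⟨T⟩ := ON45.exists_twisted ON45.wordValues
  rw [eq_top_iff, ← Subgroup.map_top_of_surjective T.cover T.cover_surjective, ← T.commutator_cover,
    commutator_def, Subgroup.map_commutator, commutator_def]
  exact Subgroup.commutator_mono le_top le_top

theorem exists_ne_one : ∃ y : ON, y ≠ 1 := by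
  obtain ⟨T⟩ := ON45.exists_twisted ON45.wordValues
  by_contra h
  push Not at h
  have hk : T.cover.ker = ⊤ := eq_top_iff.mpr fun x _ => h (T.cover x)
  have hb : commutator T.Cover ≤ ⊥ := by
    rw [commutator_def, Subgroup.commutator_le]
    intro p _ q _
    rw [Subgroup.mem_bot, commutatorElement_eq_one_iff_mul_comm]
    exact (Subgroup.mem_center_iff.mp (T.ker_le_center (hk ▸ Subgroup.mem_top q)) p)
  rw [T.commutator_cover] at hb
  have h3 := T.card_ker
  rw [hk, le_bot_iff.mp hb, Subgroup.card_bot] at h3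
  omega

/-- Shorthand for a generator. -/
def gn (s : ON.Gen) : ON := PresentedGroup.of s

theorem all_values (i : ℕ) (hi : i < 29) : value gn i = 1 := by
  have h : FreeGroup.lift gn = PresentedGroup.mk rels := FreeGroup.ext_hom _ _ fun a => by
    simp [gn, PresentedGroup.of]
  rw [value_eq, h]
  exact mk_word i hi

theorem eq_one_of_all_eq {x : ON.Gen → ON} {G : ON} (hx : x = gn)
    (hb : x .b = x .a) (hc : x .c = x .a) (hd : x .d = x .a) (he : x .e = x .a) (hf : x .f = x .a)
    (hg : x .g = G) (y : ON) : y = 1 := by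
  have v : ∀ i < 29, value x i = 1 := fun i hi => hx ▸ all_values i hi
  have a2 : x .a * x .a = 1 := by simpa [value, baseWords, val, seq] using v 0 (by omega)
  have ai : (x .a)⁻¹ = x .a := inv_eq_of_mul_eq_one_right a2
  have a2' : ∀ t, x .a * (x .a * t) = t := fun t => by rw [← mul_assoc, a2, one_mul]
  have g2 : G * G = 1 := by
    have h1 := v 21 (by omega)
    simp [value, baseWords, val, seq, hf, hg, a2'] at h1
    exact inv_eq_one.mp (by rw [mul_inv_rev]; exact h1)
  have ha : x .a = 1 := by
    have h6 := v 26 (by omega)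
    simp [value, baseWords, val, seq, hb, hc, hg, ai, a2', mul_assoc] at h6
    have g2' : ∀ t, G * (G * t) = t := fun t => by rw [← mul_assoc, g2, one_mul]
    simpa [g2', g2, a2] using h6
  have hG : G = 1 := by
    have h5 := v 25 (by omega)
    simp [value, baseWords, val, seq, hb, hc, hd, hg, ha] at h5
    have g2' : ∀ t, G * (G * t) = t := fun t => by rw [← mul_assoc, g2, one_mul]
    simpa [g2', g2] using h5
  have : ∀ s, gn s = 1 := fun s => by
    rw [← hx]
    cases s
    exacts [hg.trans hG, ha, hb.trans ha, hc.trans ha, hd.trans ha, he.trans ha, hf.trans ha]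
  have hy : y ∈ Subgroup.closure (Set.range (PresentedGroup.of : ON.Gen → ON)) := by
    rw [PresentedGroup.closure_range_of]; exact Subgroup.mem_top _
  have hle : Subgroup.closure (Set.range (PresentedGroup.of : ON.Gen → ON)) ≤ ⊥ := by
    rw [Subgroup.closure_le]
    rintro _ ⟨s, rfl⟩
    exact Subgroup.mem_bot.mpr (this s)
  exact Subgroup.mem_bot.mp (hle hy)

theorem eq_of_two_three {x y : ON} (hx : x * x = 1) (h2 : (x * y) ^ 2 = 1) (h3 : (x * y) ^ 3 = 1) : y = x := by
  rw [pow_succ, h2, one_mul] at h3
  rw [← inv_eq_of_mul_eq_one_right h3, inv_eq_of_mul_eq_one_right hx]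

theorem ab_ne_one : gn .a * gn .b ≠ 1 ∧ gn .d * gn .e ≠ 1 := by
  have v := all_values
  have sq : ∀ s, s ≠ .g → gn s * gn s = 1 := fun s hs => by
    have q : ∀ i : Fin 6, gn (node i.val) * gn (node i.val) = 1 := fun i => value_pairs gn i (v i.val (by omega))
    cases s
    exacts [absurd rfl hs, q 0, q 1, q 2, q 3, q 4, q 5]
  have ac : (gn .a * gn .c) ^ 2 = 1 := by simpa [value, baseWords, val, seq, pow_succ, mul_assoc] using v 7 (by omega)
  have ad : (gn .a * gn .d) ^ 2 = 1 := by simpa [value, baseWords, val, seq, pow_succ, mul_assoc] using v 8 (by omega)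
  have ae : (gn .a * gn .e) ^ 2 = 1 := by simpa [value, baseWords, val, seq, pow_succ, mul_assoc] using v 9 (by omega)
  have ab : (gn .a * gn .b) ^ 3 = 1 := by simpa [value, baseWords, val, seq, pow_succ, mul_assoc] using v 6 (by omega)
  have bc : (gn .b * gn .c) ^ 3 = 1 := by simpa [value, baseWords, val, seq, pow_succ, mul_assoc] using v 11 (by omega)
  have de : (gn .d * gn .e) ^ 3 = 1 := by simpa [value, baseWords, val, seq, pow_succ, mul_assoc] using v 18 (by omega)
  have ef : (gn .e * gn .f) ^ 3 = 1 := by simpa [value, baseWords, val, seq, pow_succ, mul_assoc] using v 20 (by omega)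
  have bd : (gn .b * gn .d) ^ 2 = 1 := by simpa [value, baseWords, val, seq, pow_succ, mul_assoc] using v 12 (by omega)
  have ce : (gn .c * gn .e) ^ 2 = 1 := by simpa [value, baseWords, val, seq, pow_succ, mul_assoc] using v 16 (by omega)
  have df : (gn .d * gn .f) ^ 2 = 1 := by simpa [value, baseWords, val, seq, pow_succ, mul_assoc] using v 19 (by omega)
  have r2 : gn .a * gn .f * ((gn .c * gn .d) ^ 4)⁻¹ = 1 := by
    simpa [value, baseWords, val, seq, pow_succ, mul_assoc] using v 22 (by omega)
  have sw := fun {p q : ON} {n : ℕ} (hp : p * p = 1) (hq : q * q = 1) (e : (p * q) ^ n = 1) =>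
    ONCover.Lift.pow_swap hp hq e
  obtain ⟨y, hy⟩ := exists_ne_one
  have fa : gn .f = gn .a ↔ gn .a * gn .f = 1 := by
    constructor
    · intro e; rw [e]; exact sq _ (by decide)
    · intro e; rw [← inv_eq_of_mul_eq_one_right e, inv_eq_of_mul_eq_one_right (sq .a (by decide))]
  refine ⟨fun h => hy ?_, fun h => hy ?_⟩
  · have hb : gn .b = gn .a := by
      rw [← inv_eq_of_mul_eq_one_right h, inv_eq_of_mul_eq_one_right (sq .a (by decide))]
    have hc : gn .c = gn .a := eq_of_two_three (sq .a (by decide)) ac (by rw [← hb] ; exact bc)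
    have h2 : (gn .c * gn .d) ^ 2 = 1 := hc.symm ▸ ad
    rw [show (4 : ℕ) = 2 * 2 from rfl, pow_mul, h2, one_pow, inv_one, mul_one] at r2
    have hf := fa.mpr r2
    have he : gn .e = gn .a := eq_of_two_three (sq .a (by decide)) ae
      (by rw [← hf]; exact sw (sq .e (by decide)) (sq .f (by decide)) ef)
    have hd : gn .d = gn .a := eq_of_two_three (sq .a (by decide)) ad
      (by rw [← he]; exact sw (sq .d (by decide)) (sq .e (by decide)) de)
    exact eq_one_of_all_eq rfl hb hc hd he hf rfl y
  · have he : gn .e = gn .d := by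
      rw [← inv_eq_of_mul_eq_one_right h, inv_eq_of_mul_eq_one_right (sq .d (by decide))]
    have hf : gn .f = gn .d := eq_of_two_three (sq .d (by decide)) df (he ▸ ef)
    have h2 : (gn .c * gn .d) ^ 2 = 1 := he ▸ ce
    rw [show (4 : ℕ) = 2 * 2 from rfl, pow_mul, h2, one_pow, inv_one, mul_one] at r2
    have ha : gn .f = gn .a := fa.mpr r2
    have hd : gn .d = gn .a := hf.symm.trans ha
    have hb : gn .b = gn .a := eq_of_two_three (sq .a (by decide))
      (by rw [← hd]; exact sw (sq .b (by decide)) (sq .d (by decide)) bd) ab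
    have hc : gn .c = gn .a := eq_of_two_three (sq .a (by decide)) ac (by rw [← hb]; exact bc)
    exact eq_one_of_all_eq rfl hb hc hd (he.trans hd) ha rfl y

end Cfsg.Agent.Lib.ONMult
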