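import Cfsg.Agent.Lib.ONMult.Steps

/-!
# Odd central extensions of the presented O'Nan group
-/

set_option autoImplicit false

namespace Cfsg.Agent.Lib.ONMult

open Cfsg.Spor

universe u

variable {K : Type u} [Group K]

theorem values_of_lifts {σ : K →* ON} (L : ONCover.Lifts σ) :
    ∀ i < 29, i ≠ 25 → i ≠ 26 → i ≠ 27 → value L.x i = 1 := by
  intro i hi h5 h6 h7
  have cx : ∀ a b m, a < 6 → b < 6 → coxLabel ON.edges (node a) (node b) = m →
      (L.x (node a) * L.x (node b)) ^ m = 1 := by
    intro a b m ha hb hm
    rw [← hm]
    exact L.cox _ _ (by interval_cases a <;> decide) (by interval_cases b <;> decide)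
  rcases (show i < 21 ∨ i = 21 ∨ i = 22 ∨ i = 23 ∨ i = 24 ∨ i = 28 by omega) with h | h | h | h | h | h
  · interval_cases i
    on_goal 1 => simpa [value, baseWords, val, seq, node] using cx 0 0 1 (by decide) (by decide) (by decide)
    on_goal 1 => simpa [value, baseWords, val, seq, node] using cx 1 1 1 (by decide) (by decide) (by decide)
    on_goal 1 => simpa [value, baseWords, val, seq, node] using cx 2 2 1 (by decide) (by decide) (by decide)
    on_goal 1 => simpa [value, baseWords, val, seq, node] using cx 3 3 1 (by decide) (by decide) (by decide)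
    on_goal 1 => simpa [value, baseWords, val, seq, node] using cx 4 4 1 (by decide) (by decide) (by decide)
    on_goal 1 => simpa [value, baseWords, val, seq, node] using cx 5 5 1 (by decide) (by decide) (by decide)
    on_goal 1 => simpa [value, baseWords, val, seq, node, pow_succ, mul_assoc] using cx 0 1 3 (by decide) (by decide) (by decide)
    on_goal 1 => simpa [value, baseWords, val, seq, node, pow_succ, mul_assoc] using cx 0 2 2 (by decide) (by decide) (by decide)
    on_goal 1 => simpa [value, baseWords, val, seq, node, pow_succ, mul_assoc] using cx 0 3 2 (by decide) (by decide) (by decide)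
    on_goal 1 => simpa [value, baseWords, val, seq, node, pow_succ, mul_assoc] using cx 0 4 2 (by decide) (by decide) (by decide)
    on_goal 1 => simpa [value, baseWords, val, seq, node, pow_succ, mul_assoc] using cx 0 5 2 (by decide) (by decide) (by decide)
    on_goal 1 => simpa [value, baseWords, val, seq, node, pow_succ, mul_assoc] using cx 1 2 3 (by decide) (by decide) (by decide)
    on_goal 1 => simpa [value, baseWords, val, seq, node, pow_succ, mul_assoc] using cx 1 3 2 (by decide) (by decide) (by decide)
    on_goal 1 => simpa [value, baseWords, val, seq, node, pow_succ, mul_assoc] using cx 1 4 2 (by decide) (by decide) (by decide)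
    on_goal 1 => simpa [value, baseWords, val, seq, node, pow_succ, mul_assoc] using cx 1 5 2 (by decide) (by decide) (by decide)
    on_goal 1 => simpa [value, baseWords, val, seq, node, pow_succ, mul_assoc] using cx 2 3 8 (by decide) (by decide) (by decide)
    on_goal 1 => simpa [value, baseWords, val, seq, node, pow_succ, mul_assoc] using cx 2 4 2 (by decide) (by decide) (by decide)
    on_goal 1 => simpa [value, baseWords, val, seq, node, pow_succ, mul_assoc] using cx 2 5 2 (by decide) (by decide) (by decide)
    on_goal 1 => simpa [value, baseWords, val, seq, node, pow_succ, mul_assoc] using cx 3 4 3 (by decide) (by decide) (by decide)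
    on_goal 1 => simpa [value, baseWords, val, seq, node, pow_succ, mul_assoc] using cx 3 5 2 (by decide) (by decide) (by decide)
    on_goal 1 => simpa [value, baseWords, val, seq, node, pow_succ, mul_assoc] using cx 4 5 3 (by decide) (by decide) (by decide)
  all_goals subst h
  · simpa [value, baseWords, val, seq, pow_succ, mul_assoc] using L.r1
  · simpa [value, baseWords, val, seq, pow_succ, mul_assoc] using L.r2
  · simpa [value, baseWords, val, seq, mul_assoc] using L.r3
  · simpa [value, baseWords, val, seq, mul_assoc] using L.r4
  · have haf : (L.x .a * L.x .f) ^ 2 = 1 := cx 0 5 2 (by decide) (by decide) (by decide)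
    rw [mul_inv_eq_one.mp L.r1, ← pow_mul] at haf
    rw [value_eq, word_twelve.2.2.2.2.2.2.2, map_pow, ON.g, FreeGroup.lift_apply_of]
    exact haf

variable [Finite K]

/-- Central extensions with kernel of exponent prime to six are trivial. -/
theorem ker_eq_bot_of_coprime_six (σ : K →* ON) (hσ : Function.Surjective σ) (hc : σ.ker ≤ Subgroup.center K)
    (hperf : commutator K = ⊤) (p : ℕ) (hp : p.Prime) (h2 : p ≠ 2) (h3 : p ≠ 3) (hexp : ∀ a ∈ σ.ker, a ^ p = 1) :
    σ.ker = ⊥ := by
  have : Fact p.Prime := ⟨hp⟩
  have hpg : IsPGroup p σ.ker := fun a => ⟨1, Subtype.ext (by simpa using hexp a.1 a.2)⟩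
  obtain ⟨n, hn⟩ := IsPGroup.iff_card.mp hpg
  have hodd : Odd (Nat.card σ.ker) := hn ▸ (hp.odd_of_ne_two h2).pow
  obtain ⟨L⟩ := ONCover.exists_lifts σ hσ hodd hc
  have hv := values_of_lifts L
  have hcen : ∀ i, i < 29 → value L.x i ∈ Subgroup.center K := fun i hi => hc (value_mem_ker σ L.x L.map hi)
  have six : ∀ i < 29, value L.x i ^ 6 ∈ (⊥ : Subgroup K) → value L.x i = 1 := fun i hi h => by
    have h6 : orderOf (value L.x i) ∣ 6 := orderOf_dvd_of_pow_eq_one (Subgroup.mem_bot.mp h)
    have hq : orderOf (value L.x i) ∣ p := orderOf_dvd_of_pow_eq_one (hexp _ (value_mem_ker σ L.x L.map hi))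
    rcases (Nat.dvd_prime hp).mp hq with e | e
    · exact orderOf_eq_one_iff.mp e
    · have hle : p ≤ 6 := Nat.le_of_dvd (by norm_num) (e ▸ h6)
      have h5 : p = 5 := by
        have := hp.two_le
        interval_cases p <;> first | omega | (exfalso; revert hp; decide)
      rw [e, h5] at h6
      omega
  have r5 : value L.x 25 = 1 := six 25 (by omega) (Steps.odd5 L.x ⊥ (fun i hi => hcen i (by fin_cases hi <;> decide))
    (by intro i hi hle; interval_cases i <;> first
      | simpa using hv _ (by decide) (by decide) (by decide) (by decide)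
      | rfl
      | exact absurd hle (by decide))
    (by simp))
  have r6 : value L.x 26 = 1 := six 26 (by omega) (Steps.odd6 L.x ⊥ (fun i hi => hcen i (by fin_cases hi <;> decide))
    (by intro i hi hle; interval_cases i <;> first
      | simpa using hv _ (by decide) (by decide) (by decide) (by decide)
      | rfl
      | exact absurd hle (by decide))
    (by simp))
  have r7 : value L.x 27 = 1 := six 27 (by omega) (Steps.odd7 L.x ⊥ (fun i hi => hcen i (by fin_cases hi <;> decide))
    (by intro i hi hle; interval_cases i <;> first
      | simpa using hv _ (by decide) (by decide) (by decide) (by decide)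
      | rfl
      | exact absurd hle (by decide))
    (by simp))
  refine ker_eq_bot_of_rels σ hc hperf L.x L.map (rels_of_values L.x fun i hi => ?_)
  rcases (show i = 25 ∨ i = 26 ∨ i = 27 ∨ (i ≠ 25 ∧ i ≠ 26 ∧ i ≠ 27) by omega) with rfl | rfl | rfl | ⟨a, b, c⟩
  exacts [r5, r6, r7, hv i (by omega) a b c]

end Cfsg.Agent.Lib.ONMult
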