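import Cfsg.Agent.Lib.ONMult.Two15Steps0

/-!
# Enumeration certificate check
-/

set_option autoImplicit false
set_option linter.all false

namespace Cfsg.Agent.Lib.ONMult.Two15

theorem stepsUpto0 : ∀ i < 1000, stepOK cert i = true :=
  steps_add 0 1000 (steps_zero cert) steps0

theorem stepsUpto1 : ∀ i < 2000, stepOK cert i = true :=
  steps_add 1000 1000 (stepsUpto0) steps1

theorem stepsUpto2 : ∀ i < 3000, stepOK cert i = true :=
  steps_add 2000 1000 (stepsUpto1) steps2

theorem stepsUpto3 : ∀ i < 4000, stepOK cert i = true :=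
  steps_add 3000 1000 (stepsUpto2) steps3

theorem stepsUpto4 : ∀ i < 4380, stepOK cert i = true :=
  steps_add 4000 380 (stepsUpto3) steps4

theorem done : Done cert goal where
  start := by decide +kernel
  steps := stepsUpto4
  loop := ⟨2, 0x446e00031, 0, by decide +kernel⟩

end Cfsg.Agent.Lib.ONMult.Two15
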