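import Cfsg.Agent.Lib.ONMult.Two5Steps0

/-!
# Enumeration certificate check
-/

set_option autoImplicit false
set_option linter.all false

namespace Cfsg.Agent.Lib.ONMult.Two5

theorem stepsUpto0 : ∀ i < 23, stepOK cert i = true :=
  steps_add 0 23 (steps_zero cert) steps0

theorem done : Done cert goal where
  start := by decide +kernel
  steps := stepsUpto0
  loop := ⟨2, 0x5a00015, 0, by decide +kernel⟩

end Cfsg.Agent.Lib.ONMult.Two5
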