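import Cfsg.Agent.Lib.ONMult.Two0Done
import Cfsg.Agent.Lib.ONMult.Two1Done
import Cfsg.Agent.Lib.ONMult.Two2Done
import Cfsg.Agent.Lib.ONMult.Two3Done
import Cfsg.Agent.Lib.ONMult.Two4Done
import Cfsg.Agent.Lib.ONMult.Two5Done
import Cfsg.Agent.Lib.ONMult.Two6Done
import Cfsg.Agent.Lib.ONMult.Two7Done
import Cfsg.Agent.Lib.ONMult.Two8Done
import Cfsg.Agent.Lib.ONMult.Two9Done
import Cfsg.Agent.Lib.ONMult.Two10Done
import Cfsg.Agent.Lib.ONMult.Two11Done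
import Cfsg.Agent.Lib.ONMult.Two12Done
import Cfsg.Agent.Lib.ONMult.Two13Done
import Cfsg.Agent.Lib.ONMult.Two14Done
import Cfsg.Agent.Lib.ONMult.Two15Done
import Cfsg.Agent.Lib.ONMult.Two16Done
import Cfsg.Agent.Lib.ONMult.Odd5Done
import Cfsg.Agent.Lib.ONMult.Odd6Done
import Cfsg.Agent.Lib.ONMult.Odd7Done
import Cfsg.Agent.Lib.ONMult.Lifts

/-!
# What the certificates for the twisted relators say
-/

set_option autoImplicit false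

namespace Cfsg.Agent.Lib.ONMult.Steps

open Cfsg.Spor

universe u

variable {K : Type u} [Group K]

/-- The power of relator aa is in the subgroup of the certificate. -/
theorem two0 (x : ON.Gen → K) (H : Subgroup K)
    (hcen : ∀ i ∈ ([0, 3, 7, 8, 9, 10, 12, 13, 14, 15, 16, 17, 19, 22, 23, 24, 26] : List ℕ), value x i ∈ Subgroup.center K)
    (hsq : ∀ i ∈ ([0, 3, 7, 8, 9, 10, 12, 13, 14, 15, 16, 17, 19, 22, 23, 24, 26] : List ℕ), value x i * value x i = 1)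
    (hrel : ∀ i < 29, ([1, 1, 1, 2, 2, 2, 0, 3, 4, 5, 6, 0, 7, 8, 9, 10, 11, 12, 0, 13, 0, 0, 14, 15, 16, 0, 17, 0, 99] : List ℕ).getD i 18 ≤ 17 →
      value x i = (1 :: ([0, 3, 7, 8, 9, 10, 12, 13, 14, 15, 16, 17, 19, 22, 23, 24, 26] : List ℕ).map (value x)).getD (([1, 1, 1, 2, 2, 2, 0, 3, 4, 5, 6, 0, 7, 8, 9, 10, 11, 12, 0, 13, 0, 0, 14, 15, 16, 0, 17, 0, 99] : List ℕ).getD i 18) 1)
    (hS : ∀ w ∈ ([[6, 8]] : List (List ℕ)), (w.map (val (seq x))).prod ∈ H) :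
    value x 0 ^ 1 ∈ H :=
  mem_of_step Two0.done [1, 1, 1, 2, 2, 2, 0, 3, 4, 5, 6, 0, 7, 8, 9, 10, 11, 12, 0, 13, 0, 0, 14, 15, 16, 0, 17, 0, 99] [0, 3, 7, 8, 9, 10, 12, 13, 14, 15, 16, 17, 19, 22, 23, 24, 26] 1 true [[6, 8]] x
    (by decide +kernel) (by decide +kernel) (by decide) hcen (fun _ => hsq) hrel H hS

/-- The power of relator dd is in the subgroup of the certificate. -/
theorem two1 (x : ON.Gen → K) (H : Subgroup K)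
    (hcen : ∀ i ∈ ([3, 7, 8, 9, 10, 12, 13, 14, 15, 16, 17, 19, 22, 23, 24, 26] : List ℕ), value x i ∈ Subgroup.center K)
    (hsq : ∀ i ∈ ([3, 7, 8, 9, 10, 12, 13, 14, 15, 16, 17, 19, 22, 23, 24, 26] : List ℕ), value x i * value x i = 1)
    (hrel : ∀ i < 29, ([0, 0, 0, 1, 1, 1, 0, 2, 3, 4, 5, 0, 6, 7, 8, 9, 10, 11, 0, 12, 0, 0, 13, 14, 15, 0, 16, 0, 99] : List ℕ).getD i 17 ≤ 16 →
      value x i = (1 :: ([3, 7, 8, 9, 10, 12, 13, 14, 15, 16, 17, 19, 22, 23, 24, 26] : List ℕ).map (value x)).getD (([0, 0, 0, 1, 1, 1, 0, 2, 3, 4, 5, 0, 6, 7, 8, 9, 10, 11, 0, 12, 0, 0, 13, 14, 15, 0, 16, 0, 99] : List ℕ).getD i 17) 1)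
    (hS : ∀ w ∈ ([[0, 2]] : List (List ℕ)), (w.map (val (seq x))).prod ∈ H) :
    value x 3 ^ 1 ∈ H :=
  mem_of_step Two1.done [0, 0, 0, 1, 1, 1, 0, 2, 3, 4, 5, 0, 6, 7, 8, 9, 10, 11, 0, 12, 0, 0, 13, 14, 15, 0, 16, 0, 99] [3, 7, 8, 9, 10, 12, 13, 14, 15, 16, 17, 19, 22, 23, 24, 26] 1 true [[0, 2]] x
    (by decide +kernel) (by decide +kernel) (by decide) hcen (fun _ => hsq) hrel H hS

/-- The power of relator df is in the subgroup of the certificate. -/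
theorem two2 (x : ON.Gen → K) (H : Subgroup K)
    (hcen : ∀ i ∈ ([19, 7, 8, 9, 10, 12, 13, 14, 15, 16, 17, 22, 23, 24, 26] : List ℕ), value x i ∈ Subgroup.center K)
    (hsq : ∀ i ∈ ([19, 7, 8, 9, 10, 12, 13, 14, 15, 16, 17, 22, 23, 24, 26] : List ℕ), value x i * value x i = 1)
    (hrel : ∀ i < 29, ([0, 0, 0, 0, 0, 0, 0, 2, 3, 4, 5, 0, 6, 7, 8, 9, 10, 11, 0, 1, 0, 0, 12, 13, 14, 0, 15, 0, 99] : List ℕ).getD i 16 ≤ 15 →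
      value x i = (1 :: ([19, 7, 8, 9, 10, 12, 13, 14, 15, 16, 17, 22, 23, 24, 26] : List ℕ).map (value x)).getD (([0, 0, 0, 0, 0, 0, 0, 2, 3, 4, 5, 0, 6, 7, 8, 9, 10, 11, 0, 1, 0, 0, 12, 13, 14, 0, 15, 0, 99] : List ℕ).getD i 16) 1)
    (hS : ∀ w ∈ ([[6, 8]] : List (List ℕ)), (w.map (val (seq x))).prod ∈ H) :
    value x 19 ^ 1 ∈ H :=
  mem_of_step Two2.done [0, 0, 0, 0, 0, 0, 0, 2, 3, 4, 5, 0, 6, 7, 8, 9, 10, 11, 0, 1, 0, 0, 12, 13, 14, 0, 15, 0, 99] [19, 7, 8, 9, 10, 12, 13, 14, 15, 16, 17, 22, 23, 24, 26] 1 true [[6, 8]] x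
    (by decide +kernel) (by decide +kernel) (by decide) hcen (fun _ => hsq) hrel H hS

/-- The power of relator cd is in the subgroup of the certificate. -/
theorem two3 (x : ON.Gen → K) (H : Subgroup K)
    (hcen : ∀ i ∈ ([15, 7, 8, 10, 12, 14, 17, 22, 23, 24, 26] : List ℕ), value x i ∈ Subgroup.center K)
    (hsq : ∀ i ∈ ([15, 7, 8, 10, 12, 14, 17, 22, 23, 24, 26] : List ℕ), value x i * value x i = 1)
    (hrel : ∀ i < 29, ([0, 0, 0, 0, 99, 0, 0, 2, 3, 99, 4, 0, 5, 99, 6, 1, 99, 7, 99, 0, 99, 0, 8, 9, 10, 0, 11, 99, 99] : List ℕ).getD i 12 ≤ 11 →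
      value x i = (1 :: ([15, 7, 8, 10, 12, 14, 17, 22, 23, 24, 26] : List ℕ).map (value x)).getD (([0, 0, 0, 0, 99, 0, 0, 2, 3, 99, 4, 0, 5, 99, 6, 1, 99, 7, 99, 0, 99, 0, 8, 9, 10, 0, 11, 99, 99] : List ℕ).getD i 12) 1)
    (hS : ∀ w ∈ ([[0, 2]] : List (List ℕ)), (w.map (val (seq x))).prod ∈ H) :
    value x 15 ^ 1 ∈ H :=
  mem_of_step Two3.done [0, 0, 0, 0, 99, 0, 0, 2, 3, 99, 4, 0, 5, 99, 6, 1, 99, 7, 99, 0, 99, 0, 8, 9, 10, 0, 11, 99, 99] [15, 7, 8, 10, 12, 14, 17, 22, 23, 24, 26] 1 true [[0, 2]] x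
    (by decide +kernel) (by decide +kernel) (by decide) hcen (fun _ => hsq) hrel H hS

/-- The power of relator af is in the subgroup of the certificate. -/
theorem two4 (x : ON.Gen → K) (H : Subgroup K)
    (hcen : ∀ i ∈ ([10, 7, 8, 12, 14, 17, 22, 23, 24, 26] : List ℕ), value x i ∈ Subgroup.center K)
    (hsq : ∀ i ∈ ([10, 7, 8, 12, 14, 17, 22, 23, 24, 26] : List ℕ), value x i * value x i = 1)
    (hrel : ∀ i < 29, ([0, 0, 0, 0, 99, 0, 0, 2, 3, 99, 1, 0, 4, 99, 5, 0, 99, 6, 99, 0, 99, 0, 7, 8, 9, 0, 10, 99, 99] : List ℕ).getD i 11 ≤ 10 →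
      value x i = (1 :: ([10, 7, 8, 12, 14, 17, 22, 23, 24, 26] : List ℕ).map (value x)).getD (([0, 0, 0, 0, 99, 0, 0, 2, 3, 99, 1, 0, 4, 99, 5, 0, 99, 6, 99, 0, 99, 0, 7, 8, 9, 0, 10, 99, 99] : List ℕ).getD i 11) 1)
    (hS : ∀ w ∈ ([[0, 2]] : List (List ℕ)), (w.map (val (seq x))).prod ∈ H) :
    value x 10 ^ 1 ∈ H :=
  mem_of_step Two4.done [0, 0, 0, 0, 99, 0, 0, 2, 3, 99, 1, 0, 4, 99, 5, 0, 99, 6, 99, 0, 99, 0, 7, 8, 9, 0, 10, 99, 99] [10, 7, 8, 12, 14, 17, 22, 23, 24, 26] 1 true [[0, 2]] x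
    (by decide +kernel) (by decide +kernel) (by decide) hcen (fun _ => hsq) hrel H hS

/-- The power of relator bf is in the subgroup of the certificate. -/
theorem two5 (x : ON.Gen → K) (H : Subgroup K)
    (hcen : ∀ i ∈ ([14, 7, 8, 9, 12, 13, 16, 17, 22, 23, 24, 26] : List ℕ), value x i ∈ Subgroup.center K)
    (hsq : ∀ i ∈ ([14, 7, 8, 9, 12, 13, 16, 17, 22, 23, 24, 26] : List ℕ), value x i * value x i = 1)
    (hrel : ∀ i < 29, ([0, 0, 0, 0, 0, 0, 0, 2, 3, 4, 0, 0, 5, 6, 1, 0, 7, 8, 0, 0, 0, 0, 9, 10, 11, 0, 12, 0, 99] : List ℕ).getD i 13 ≤ 12 →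
      value x i = (1 :: ([14, 7, 8, 9, 12, 13, 16, 17, 22, 23, 24, 26] : List ℕ).map (value x)).getD (([0, 0, 0, 0, 0, 0, 0, 2, 3, 4, 0, 0, 5, 6, 1, 0, 7, 8, 0, 0, 0, 0, 9, 10, 11, 0, 12, 0, 99] : List ℕ).getD i 13) 1)
    (hS : ∀ w ∈ ([[0, 2]] : List (List ℕ)), (w.map (val (seq x))).prod ∈ H) :
    value x 14 ^ 1 ∈ H :=
  mem_of_step Two5.done [0, 0, 0, 0, 0, 0, 0, 2, 3, 4, 0, 0, 5, 6, 1, 0, 7, 8, 0, 0, 0, 0, 9, 10, 11, 0, 12, 0, 99] [14, 7, 8, 9, 12, 13, 16, 17, 22, 23, 24, 26] 1 true [[0, 2]] x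
    (by decide +kernel) (by decide +kernel) (by decide) hcen (fun _ => hsq) hrel H hS

/-- The power of relator be is in the subgroup of the certificate. -/
theorem two6 (x : ON.Gen → K) (H : Subgroup K)
    (hcen : ∀ i ∈ ([13, 7, 8, 9, 12, 16, 17, 22, 23, 24, 26] : List ℕ), value x i ∈ Subgroup.center K)
    (hsq : ∀ i ∈ ([13, 7, 8, 9, 12, 16, 17, 22, 23, 24, 26] : List ℕ), value x i * value x i = 1)
    (hrel : ∀ i < 29, ([0, 0, 0, 0, 0, 0, 0, 2, 3, 4, 0, 0, 5, 1, 0, 0, 6, 7, 0, 0, 0, 0, 8, 9, 10, 0, 11, 0, 99] : List ℕ).getD i 12 ≤ 11 →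
      value x i = (1 :: ([13, 7, 8, 9, 12, 16, 17, 22, 23, 24, 26] : List ℕ).map (value x)).getD (([0, 0, 0, 0, 0, 0, 0, 2, 3, 4, 0, 0, 5, 1, 0, 0, 6, 7, 0, 0, 0, 0, 8, 9, 10, 0, 11, 0, 99] : List ℕ).getD i 12) 1)
    (hS : ∀ w ∈ ([[0, 2]] : List (List ℕ)), (w.map (val (seq x))).prod ∈ H) :
    value x 13 ^ 1 ∈ H :=
  mem_of_step Two6.done [0, 0, 0, 0, 0, 0, 0, 2, 3, 4, 0, 0, 5, 1, 0, 0, 6, 7, 0, 0, 0, 0, 8, 9, 10, 0, 11, 0, 99] [13, 7, 8, 9, 12, 16, 17, 22, 23, 24, 26] 1 true [[0, 2]] x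
    (by decide +kernel) (by decide +kernel) (by decide) hcen (fun _ => hsq) hrel H hS

/-- The power of relator bd is in the subgroup of the certificate. -/
theorem two7 (x : ON.Gen → K) (H : Subgroup K)
    (hcen : ∀ i ∈ ([12, 7, 8, 9, 16, 17, 22, 23, 24, 26] : List ℕ), value x i ∈ Subgroup.center K)
    (hsq : ∀ i ∈ ([12, 7, 8, 9, 16, 17, 22, 23, 24, 26] : List ℕ), value x i * value x i = 1)
    (hrel : ∀ i < 29, ([0, 0, 0, 0, 0, 0, 0, 2, 3, 4, 0, 0, 1, 0, 0, 0, 5, 6, 0, 0, 0, 0, 7, 8, 9, 0, 10, 0, 99] : List ℕ).getD i 11 ≤ 10 →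
      value x i = (1 :: ([12, 7, 8, 9, 16, 17, 22, 23, 24, 26] : List ℕ).map (value x)).getD (([0, 0, 0, 0, 0, 0, 0, 2, 3, 4, 0, 0, 1, 0, 0, 0, 5, 6, 0, 0, 0, 0, 7, 8, 9, 0, 10, 0, 99] : List ℕ).getD i 11) 1)
    (hS : ∀ w ∈ ([[6, 8]] : List (List ℕ)), (w.map (val (seq x))).prod ∈ H) :
    value x 12 ^ 1 ∈ H :=
  mem_of_step Two7.done [0, 0, 0, 0, 0, 0, 0, 2, 3, 4, 0, 0, 1, 0, 0, 0, 5, 6, 0, 0, 0, 0, 7, 8, 9, 0, 10, 0, 99] [12, 7, 8, 9, 16, 17, 22, 23, 24, 26] 1 true [[6, 8]] x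
    (by decide +kernel) (by decide +kernel) (by decide) hcen (fun _ => hsq) hrel H hS

/-- The power of relator ae is in the subgroup of the certificate. -/
theorem two8 (x : ON.Gen → K) (H : Subgroup K)
    (hcen : ∀ i ∈ ([9, 7, 8, 16, 17, 22, 23, 24, 26] : List ℕ), value x i ∈ Subgroup.center K)
    (hsq : ∀ i ∈ ([9, 7, 8, 16, 17, 22, 23, 24, 26] : List ℕ), value x i * value x i = 1)
    (hrel : ∀ i < 29, ([0, 0, 0, 0, 0, 0, 0, 2, 3, 1, 0, 0, 0, 0, 0, 0, 4, 5, 0, 0, 0, 0, 6, 7, 8, 0, 9, 0, 99] : List ℕ).getD i 10 ≤ 9 →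
      value x i = (1 :: ([9, 7, 8, 16, 17, 22, 23, 24, 26] : List ℕ).map (value x)).getD (([0, 0, 0, 0, 0, 0, 0, 2, 3, 1, 0, 0, 0, 0, 0, 0, 4, 5, 0, 0, 0, 0, 6, 7, 8, 0, 9, 0, 99] : List ℕ).getD i 10) 1)
    (hS : ∀ w ∈ ([[0, 2]] : List (List ℕ)), (w.map (val (seq x))).prod ∈ H) :
    value x 9 ^ 1 ∈ H :=
  mem_of_step Two8.done [0, 0, 0, 0, 0, 0, 0, 2, 3, 1, 0, 0, 0, 0, 0, 0, 4, 5, 0, 0, 0, 0, 6, 7, 8, 0, 9, 0, 99] [9, 7, 8, 16, 17, 22, 23, 24, 26] 1 true [[0, 2]] x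
    (by decide +kernel) (by decide +kernel) (by decide) hcen (fun _ => hsq) hrel H hS

/-- The power of relator ce is in the subgroup of the certificate. -/
theorem two9 (x : ON.Gen → K) (H : Subgroup K)
    (hcen : ∀ i ∈ ([16, 7, 8, 17, 22, 23, 24, 26] : List ℕ), value x i ∈ Subgroup.center K)
    (hsq : ∀ i ∈ ([16, 7, 8, 17, 22, 23, 24, 26] : List ℕ), value x i * value x i = 1)
    (hrel : ∀ i < 29, ([0, 0, 0, 0, 0, 0, 0, 2, 3, 0, 0, 0, 0, 0, 0, 0, 1, 4, 0, 0, 0, 0, 5, 6, 7, 0, 8, 0, 99] : List ℕ).getD i 9 ≤ 8 →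
      value x i = (1 :: ([16, 7, 8, 17, 22, 23, 24, 26] : List ℕ).map (value x)).getD (([0, 0, 0, 0, 0, 0, 0, 2, 3, 0, 0, 0, 0, 0, 0, 0, 1, 4, 0, 0, 0, 0, 5, 6, 7, 0, 8, 0, 99] : List ℕ).getD i 9) 1)
    (hS : ∀ w ∈ ([] : List (List ℕ)), (w.map (val (seq x))).prod ∈ H) :
    value x 16 ^ 1 ∈ H :=
  mem_of_step Two9.done [0, 0, 0, 0, 0, 0, 0, 2, 3, 0, 0, 0, 0, 0, 0, 0, 1, 4, 0, 0, 0, 0, 5, 6, 7, 0, 8, 0, 99] [16, 7, 8, 17, 22, 23, 24, 26] 1 true [] x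
    (by decide +kernel) (by decide +kernel) (by decide) hcen (fun _ => hsq) hrel H hS

/-- The power of relator cf is in the subgroup of the certificate. -/
theorem two10 (x : ON.Gen → K) (H : Subgroup K)
    (hcen : ∀ i ∈ ([17, 7, 8, 22, 23, 24, 26] : List ℕ), value x i ∈ Subgroup.center K)
    (hsq : ∀ i ∈ ([17, 7, 8, 22, 23, 24, 26] : List ℕ), value x i * value x i = 1)
    (hrel : ∀ i < 29, ([0, 0, 0, 0, 99, 0, 0, 2, 3, 99, 0, 0, 0, 99, 0, 0, 99, 1, 99, 0, 99, 0, 4, 5, 6, 0, 7, 99, 99] : List ℕ).getD i 8 ≤ 7 →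
      value x i = (1 :: ([17, 7, 8, 22, 23, 24, 26] : List ℕ).map (value x)).getD (([0, 0, 0, 0, 99, 0, 0, 2, 3, 99, 0, 0, 0, 99, 0, 0, 99, 1, 99, 0, 99, 0, 4, 5, 6, 0, 7, 99, 99] : List ℕ).getD i 8) 1)
    (hS : ∀ w ∈ ([] : List (List ℕ)), (w.map (val (seq x))).prod ∈ H) :
    value x 17 ^ 1 ∈ H :=
  mem_of_step Two10.done [0, 0, 0, 0, 99, 0, 0, 2, 3, 99, 0, 0, 0, 99, 0, 0, 99, 1, 99, 0, 99, 0, 4, 5, 6, 0, 7, 99, 99] [17, 7, 8, 22, 23, 24, 26] 1 true [] x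
    (by decide +kernel) (by decide +kernel) (by decide) hcen (fun _ => hsq) hrel H hS

/-- The power of relator ad is in the subgroup of the certificate. -/
theorem two11 (x : ON.Gen → K) (H : Subgroup K)
    (hcen : ∀ i ∈ ([8, 7, 22, 23, 24, 26] : List ℕ), value x i ∈ Subgroup.center K)
    (hsq : ∀ i ∈ ([8, 7, 22, 23, 24, 26] : List ℕ), value x i * value x i = 1)
    (hrel : ∀ i < 29, ([0, 0, 0, 0, 0, 0, 0, 2, 1, 0, 0, 0, 0, 0, 0, 0, 0, 0, 0, 0, 0, 0, 3, 4, 5, 0, 6, 0, 99] : List ℕ).getD i 7 ≤ 6 →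
      value x i = (1 :: ([8, 7, 22, 23, 24, 26] : List ℕ).map (value x)).getD (([0, 0, 0, 0, 0, 0, 0, 2, 1, 0, 0, 0, 0, 0, 0, 0, 0, 0, 0, 0, 0, 0, 3, 4, 5, 0, 6, 0, 99] : List ℕ).getD i 7) 1)
    (hS : ∀ w ∈ ([[0, 2]] : List (List ℕ)), (w.map (val (seq x))).prod ∈ H) :
    value x 8 ^ 1 ∈ H :=
  mem_of_step Two11.done [0, 0, 0, 0, 0, 0, 0, 2, 1, 0, 0, 0, 0, 0, 0, 0, 0, 0, 0, 0, 0, 0, 3, 4, 5, 0, 6, 0, 99] [8, 7, 22, 23, 24, 26] 1 true [[0, 2]] x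
    (by decide +kernel) (by decide +kernel) (by decide) hcen (fun _ => hsq) hrel H hS

/-- The power of relator ac is in the subgroup of the certificate. -/
theorem two12 (x : ON.Gen → K) (H : Subgroup K)
    (hcen : ∀ i ∈ ([7, 22, 23, 24, 26] : List ℕ), value x i ∈ Subgroup.center K)
    (hsq : ∀ i ∈ ([7, 22, 23, 24, 26] : List ℕ), value x i * value x i = 1)
    (hrel : ∀ i < 29, ([0, 0, 0, 0, 0, 0, 0, 1, 0, 0, 0, 0, 0, 0, 0, 0, 0, 0, 0, 0, 0, 0, 2, 3, 4, 0, 5, 0, 99] : List ℕ).getD i 6 ≤ 5 →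
      value x i = (1 :: ([7, 22, 23, 24, 26] : List ℕ).map (value x)).getD (([0, 0, 0, 0, 0, 0, 0, 1, 0, 0, 0, 0, 0, 0, 0, 0, 0, 0, 0, 0, 0, 0, 2, 3, 4, 0, 5, 0, 99] : List ℕ).getD i 6) 1)
    (hS : ∀ w ∈ ([] : List (List ℕ)), (w.map (val (seq x))).prod ∈ H) :
    value x 7 ^ 1 ∈ H :=
  mem_of_step Two12.done [0, 0, 0, 0, 0, 0, 0, 1, 0, 0, 0, 0, 0, 0, 0, 0, 0, 0, 0, 0, 0, 0, 2, 3, 4, 0, 5, 0, 99] [7, 22, 23, 24, 26] 1 true [] x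
    (by decide +kernel) (by decide +kernel) (by decide) hcen (fun _ => hsq) hrel H hS

/-- The power of relator r4 is in the subgroup of the certificate. -/
theorem two13 (x : ON.Gen → K) (H : Subgroup K)
    (hcen : ∀ i ∈ ([24, 22, 23, 26] : List ℕ), value x i ∈ Subgroup.center K)
    (hsq : ∀ i ∈ ([24, 22, 23, 26] : List ℕ), value x i * value x i = 1)
    (hrel : ∀ i < 29, ([0, 0, 0, 0, 0, 0, 0, 0, 0, 0, 0, 0, 0, 0, 0, 0, 0, 0, 0, 0, 0, 0, 2, 3, 1, 0, 4, 0, 99] : List ℕ).getD i 5 ≤ 4 →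
      value x i = (1 :: ([24, 22, 23, 26] : List ℕ).map (value x)).getD (([0, 0, 0, 0, 0, 0, 0, 0, 0, 0, 0, 0, 0, 0, 0, 0, 0, 0, 0, 0, 0, 0, 2, 3, 1, 0, 4, 0, 99] : List ℕ).getD i 5) 1)
    (hS : ∀ w ∈ ([[6, 8]] : List (List ℕ)), (w.map (val (seq x))).prod ∈ H) :
    value x 24 ^ 1 ∈ H :=
  mem_of_step Two13.done [0, 0, 0, 0, 0, 0, 0, 0, 0, 0, 0, 0, 0, 0, 0, 0, 0, 0, 0, 0, 0, 0, 2, 3, 1, 0, 4, 0, 99] [24, 22, 23, 26] 1 true [[6, 8]] x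
    (by decide +kernel) (by decide +kernel) (by decide) hcen (fun _ => hsq) hrel H hS

/-- The power of relator r3 is in the subgroup of the certificate. -/
theorem two14 (x : ON.Gen → K) (H : Subgroup K)
    (hcen : ∀ i ∈ ([23, 22, 26] : List ℕ), value x i ∈ Subgroup.center K)
    (hsq : ∀ i ∈ ([23, 22, 26] : List ℕ), value x i * value x i = 1)
    (hrel : ∀ i < 29, ([0, 0, 0, 0, 0, 0, 0, 0, 0, 0, 0, 0, 0, 0, 0, 0, 0, 0, 0, 0, 0, 0, 2, 1, 0, 0, 3, 0, 99] : List ℕ).getD i 4 ≤ 3 →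
      value x i = (1 :: ([23, 22, 26] : List ℕ).map (value x)).getD (([0, 0, 0, 0, 0, 0, 0, 0, 0, 0, 0, 0, 0, 0, 0, 0, 0, 0, 0, 0, 0, 0, 2, 1, 0, 0, 3, 0, 99] : List ℕ).getD i 4) 1)
    (hS : ∀ w ∈ ([[0], [2], [6], [8]] : List (List ℕ)), (w.map (val (seq x))).prod ∈ H) :
    value x 23 ^ 1 ∈ H :=
  mem_of_step Two14.done [0, 0, 0, 0, 0, 0, 0, 0, 0, 0, 0, 0, 0, 0, 0, 0, 0, 0, 0, 0, 0, 0, 2, 1, 0, 0, 3, 0, 99] [23, 22, 26] 1 true [[0], [2], [6], [8]] x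
    (by decide +kernel) (by decide +kernel) (by decide) hcen (fun _ => hsq) hrel H hS

/-- The power of relator r2 is in the subgroup of the certificate. -/
theorem two15 (x : ON.Gen → K) (H : Subgroup K)
    (hcen : ∀ i ∈ ([22, 26] : List ℕ), value x i ∈ Subgroup.center K)
    (hsq : ∀ i ∈ ([22, 26] : List ℕ), value x i * value x i = 1)
    (hrel : ∀ i < 29, ([0, 0, 0, 0, 0, 0, 0, 0, 0, 0, 0, 0, 0, 0, 0, 0, 0, 0, 0, 0, 0, 0, 1, 0, 0, 0, 2, 0, 99] : List ℕ).getD i 3 ≤ 2 →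
      value x i = (1 :: ([22, 26] : List ℕ).map (value x)).getD (([0, 0, 0, 0, 0, 0, 0, 0, 0, 0, 0, 0, 0, 0, 0, 0, 0, 0, 0, 0, 0, 0, 1, 0, 0, 0, 2, 0, 99] : List ℕ).getD i 3) 1)
    (hS : ∀ w ∈ ([[0], [2], [6], [8]] : List (List ℕ)), (w.map (val (seq x))).prod ∈ H) :
    value x 22 ^ 1 ∈ H :=
  mem_of_step Two15.done [0, 0, 0, 0, 0, 0, 0, 0, 0, 0, 0, 0, 0, 0, 0, 0, 0, 0, 0, 0, 0, 0, 1, 0, 0, 0, 2, 0, 99] [22, 26] 1 true [[0], [2], [6], [8]] x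
    (by decide +kernel) (by decide +kernel) (by decide) hcen (fun _ => hsq) hrel H hS

/-- The power of relator r6 is in the subgroup of the certificate. -/
theorem two16 (x : ON.Gen → K) (H : Subgroup K)
    (hcen : ∀ i ∈ ([26] : List ℕ), value x i ∈ Subgroup.center K)
    (hsq : ∀ i ∈ ([26] : List ℕ), value x i * value x i = 1)
    (hrel : ∀ i < 29, ([0, 0, 0, 0, 0, 0, 0, 0, 0, 0, 0, 0, 0, 0, 0, 0, 0, 0, 0, 0, 0, 0, 0, 0, 0, 0, 1, 0, 99] : List ℕ).getD i 2 ≤ 1 →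
      value x i = (1 :: ([26] : List ℕ).map (value x)).getD (([0, 0, 0, 0, 0, 0, 0, 0, 0, 0, 0, 0, 0, 0, 0, 0, 0, 0, 0, 0, 0, 0, 0, 0, 0, 0, 1, 0, 99] : List ℕ).getD i 2) 1)
    (hS : ∀ w ∈ ([[0], [2], [6], [8]] : List (List ℕ)), (w.map (val (seq x))).prod ∈ H) :
    value x 26 ^ 1 ∈ H :=
  mem_of_step Two16.done [0, 0, 0, 0, 0, 0, 0, 0, 0, 0, 0, 0, 0, 0, 0, 0, 0, 0, 0, 0, 0, 0, 0, 0, 0, 0, 1, 0, 99] [26] 1 true [[0], [2], [6], [8]] x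
    (by decide +kernel) (by decide +kernel) (by decide) hcen (fun _ => hsq) hrel H hS

/-- The power of relator r5 is in the subgroup of the certificate. -/
theorem odd5 (x : ON.Gen → K) (H : Subgroup K)
    (hcen : ∀ i ∈ ([25, 26] : List ℕ), value x i ∈ Subgroup.center K)
    (hrel : ∀ i < 29, ([0, 0, 0, 0, 99, 0, 0, 0, 0, 99, 0, 0, 0, 99, 0, 0, 99, 0, 99, 0, 99, 0, 0, 0, 0, 1, 2, 99, 0] : List ℕ).getD i 3 ≤ 2 →
      value x i = (1 :: ([25, 26] : List ℕ).map (value x)).getD (([0, 0, 0, 0, 99, 0, 0, 0, 0, 99, 0, 0, 0, 99, 0, 0, 99, 0, 99, 0, 99, 0, 0, 0, 0, 1, 2, 99, 0] : List ℕ).getD i 3) 1)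
    (hS : ∀ w ∈ ([] : List (List ℕ)), (w.map (val (seq x))).prod ∈ H) :
    value x 25 ^ 6 ∈ H :=
  mem_of_step Odd5.done [0, 0, 0, 0, 99, 0, 0, 0, 0, 99, 0, 0, 0, 99, 0, 0, 99, 0, 99, 0, 99, 0, 0, 0, 0, 1, 2, 99, 0] [25, 26] 6 false [] x
    (by decide +kernel) (by decide +kernel) (by decide) hcen (fun h => absurd h (by decide)) hrel H hS

/-- The power of relator r6 is in the subgroup of the certificate. -/
theorem odd6 (x : ON.Gen → K) (H : Subgroup K)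
    (hcen : ∀ i ∈ ([26, 25, 27] : List ℕ), value x i ∈ Subgroup.center K)
    (hrel : ∀ i < 29, ([0, 0, 0, 0, 0, 0, 0, 0, 0, 0, 0, 0, 0, 0, 0, 0, 0, 0, 0, 0, 0, 0, 0, 0, 0, 2, 1, 3, 0] : List ℕ).getD i 4 ≤ 3 →
      value x i = (1 :: ([26, 25, 27] : List ℕ).map (value x)).getD (([0, 0, 0, 0, 0, 0, 0, 0, 0, 0, 0, 0, 0, 0, 0, 0, 0, 0, 0, 0, 0, 0, 0, 0, 0, 2, 1, 3, 0] : List ℕ).getD i 4) 1)
    (hS : ∀ w ∈ ([] : List (List ℕ)), (w.map (val (seq x))).prod ∈ H) :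
    value x 26 ^ 6 ∈ H :=
  mem_of_step Odd6.done [0, 0, 0, 0, 0, 0, 0, 0, 0, 0, 0, 0, 0, 0, 0, 0, 0, 0, 0, 0, 0, 0, 0, 0, 0, 2, 1, 3, 0] [26, 25, 27] 6 false [] x
    (by decide +kernel) (by decide +kernel) (by decide) hcen (fun h => absurd h (by decide)) hrel H hS

/-- The power of relator r7 is in the subgroup of the certificate. -/
theorem odd7 (x : ON.Gen → K) (H : Subgroup K)
    (hcen : ∀ i ∈ ([27, 25, 26] : List ℕ), value x i ∈ Subgroup.center K)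
    (hrel : ∀ i < 29, ([0, 0, 0, 0, 0, 0, 0, 0, 0, 0, 0, 0, 0, 0, 0, 0, 0, 0, 0, 0, 0, 0, 0, 0, 0, 2, 3, 1, 0] : List ℕ).getD i 4 ≤ 3 →
      value x i = (1 :: ([27, 25, 26] : List ℕ).map (value x)).getD (([0, 0, 0, 0, 0, 0, 0, 0, 0, 0, 0, 0, 0, 0, 0, 0, 0, 0, 0, 0, 0, 0, 0, 0, 0, 2, 3, 1, 0] : List ℕ).getD i 4) 1)
    (hS : ∀ w ∈ ([] : List (List ℕ)), (w.map (val (seq x))).prod ∈ H) :
    value x 27 ^ 6 ∈ H :=
  mem_of_step Odd7.done [0, 0, 0, 0, 0, 0, 0, 0, 0, 0, 0, 0, 0, 0, 0, 0, 0, 0, 0, 0, 0, 0, 0, 0, 0, 2, 3, 1, 0] [27, 25, 26] 6 false [] x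
    (by decide +kernel) (by decide +kernel) (by decide) hcen (fun h => absurd h (by decide)) hrel H hS

end Cfsg.Agent.Lib.ONMult.Steps
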