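import Cfsg.Agent.Lib.ONMult.Small
import Cfsg.Agent.Lib.ONMult.Steps

/-!
# Central extensions of the presented O'Nan group with kernel of exponent two
-/

set_option autoImplicit false
set_option maxHeartbeats 4000000

namespace Cfsg.Agent.Lib.ONMult

open Cfsg.Spor

universe u

variable {K : Type u} [Group K]

theorem exists_normalised (σ : K →* ON) (hσ : Function.Surjective σ) (hc : σ.ker ≤ Subgroup.center K)
    (hexp : ∀ a ∈ σ.ker, a * a = 1) :
    ∃ x : ON.Gen → K, (∀ s, σ (x s) = PresentedGroup.of s) ∧
      ∀ i ∈ ([6, 11, 18, 20, 21, 25, 27] : List ℕ), value x i = 1 := by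
  choose y hy using fun s : ON.Gen => hσ (PresentedGroup.of s)
  letI : CommGroup σ.ker :=
    { (inferInstance : Group σ.ker) with
      mul_comm := fun u v => Subtype.ext (Subgroup.mem_center_iff.mp (hc v.2) u.1) }
  let t : ℕ → σ.ker := fun i => if h : i < 29 then ⟨value y i, value_mem_ker σ y hy h⟩ else 1
  obtain ⟨c, hcv⟩ := correction (fun u : σ.ker => Subtype.ext (hexp u.1 u.2)) t
  refine ⟨fun s => y s * (c s).1, fun s => ?_, fun i hi => ?_⟩
  · rw [map_mul, hy, MonoidHom.mem_ker.mp (c s).2, mul_one]
  · have h29 : i < 29 := by fin_cases hi <;> omega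
    have hsub : value (fun s => (c s).1) i = (value c i).1 := value_map σ.ker.subtype c i
    rw [value_mul_central y (fun s => (c s).1) (fun s => hc (c s).2) i, hsub]
    have := congrArg Subtype.val (hcv i hi)
    simpa [t, h29] using this

/-- Central extensions with kernel of exponent two are trivial. -/
theorem ker_eq_bot_of_two (σ : K →* ON) (hσ : Function.Surjective σ) (hc : σ.ker ≤ Subgroup.center K)
    (hperf : commutator K = ⊤) (hexp : ∀ a ∈ σ.ker, a * a = 1) : σ.ker = ⊥ := by
  obtain ⟨x, hx, hn⟩ := exists_normalised σ hσ hc hexp
  have hmem : ∀ i, i < 29 → value x i ∈ σ.ker := fun i hi => value_mem_ker σ x hx hi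
  have hcen : ∀ i, i < 29 → value x i ∈ Subgroup.center K := fun i hi => hc (hmem i hi)
  have hsq : ∀ i, i < 29 → value x i * value x i = 1 := fun i hi => hexp _ (hmem i hi)
  have e6 : value x 6 = 1 := hn 6 (by decide)
  have e11 : value x 11 = 1 := hn 11 (by decide)
  have e18 : value x 18 = 1 := hn 18 (by decide)
  have e20 : value x 20 = 1 := hn 20 (by decide)
  have e21 : value x 21 = 1 := hn 21 (by decide)
  have e25 : value x 25 = 1 := hn 25 (by decide)
  have e27 : value x 27 = 1 := hn 27 (by decide)
  have cub : (x .a * x .b) ^ 3 = 1 ∧ (x .b * x .c) ^ 3 = 1 ∧ (x .d * x .e) ^ 3 = 1 ∧ (x .e * x .f) ^ 3 = 1 :=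
    ⟨by simpa [value, baseWords, val, seq, pow_succ, mul_assoc] using e6,
      by simpa [value, baseWords, val, seq, pow_succ, mul_assoc] using e11,
      by simpa [value, baseWords, val, seq, pow_succ, mul_assoc] using e18,
      by simpa [value, baseWords, val, seq, pow_succ, mul_assoc] using e20⟩
  have vs : ∀ s, s ≠ ON.Gen.g → (∀ w, x s * x s * w = w * (x s * x s)) ∧ x s * x s * (x s * x s) = 1 := by
    intro s hs
    have q : ∀ i : Fin 6, value x i.val = x (node i.val) * x (node i.val) := fun i => by
      fin_cases i <;> simp [value, baseWords, val, seq, node]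
    have key : ∀ i : Fin 6, node i.val = s →
        (∀ w, x s * x s * w = w * (x s * x s)) ∧ x s * x s * (x s * x s) = 1 := fun i e => by
      rw [← e, ← q i]
      exact ⟨fun w => (Subgroup.mem_center_iff.mp (hcen _ (by omega)) w).symm, hsq _ (by omega)⟩
    cases s
    exacts [absurd rfl hs, key 0 rfl, key 1 rfl, key 2 rfl, key 3 rfl, key 4 rfl, key 5 rfl]
  have pair : ∀ p q : ON.Gen, p ≠ .g → q ≠ .g → (x p * x q) ^ 3 = 1 → x q * x q = x p * x p := fun p q hp hq h =>
    sq_eq_sq h (vs p hp).1 (vs q hq).1 (vs p hp).2 (vs q hq).2
  have h10 : value x 1 = value x 0 := by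
    simpa [value, baseWords, val, seq] using pair .a .b (by decide) (by decide) cub.1
  have h20 : value x 2 = value x 0 := by
    simpa [value, baseWords, val, seq] using
      (pair .b .c (by decide) (by decide) cub.2.1).trans (pair .a .b (by decide) (by decide) cub.1)
  have h43 : value x 4 = value x 3 := by
    simpa [value, baseWords, val, seq] using pair .d .e (by decide) (by decide) cub.2.2.1
  have h53 : value x 5 = value x 3 := by
    simpa [value, baseWords, val, seq] using
      (pair .e .f (by decide) (by decide) cub.2.2.2).trans (pair .d .e (by decide) (by decide) cub.2.2.1)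
  have e0 : value x 0 = 1 := by
    have h := Steps.two0 x (Subgroup.zpowers (x .d * x .e)) (fun i hi => hcen i (by fin_cases hi <;> decide)) (fun i hi => hsq i (by fin_cases hi <;> decide))
      (by intro i hi hle; interval_cases i <;> first | exact absurd hle (by decide) | simp [*] | rfl)
      (by simp [val, seq])
    rw [pow_one] at h
    exact eq_one_of_mem_zpowers_cube cub.2.2.1 h (hsq 0 (by decide))
  have e1 : value x 1 = 1 := h10.trans e0
  have e2 : value x 2 = 1 := h20.trans e0
  have e3 : value x 3 = 1 := by
    have h := Steps.two1 x (Subgroup.zpowers (x .a * x .b)) (fun i hi => hcen i (by fin_cases hi <;> decide)) (fun i hi => hsq i (by fin_cases hi <;> decide))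
      (by intro i hi hle; interval_cases i <;> first | exact absurd hle (by decide) | simp [*] | rfl)
      (by simp [val, seq])
    rw [pow_one] at h
    exact eq_one_of_mem_zpowers_cube cub.1 h (hsq 3 (by decide))
  have e4 : value x 4 = 1 := h43.trans e3
  have e5 : value x 5 = 1 := h53.trans e3
  have e19 : value x 19 = 1 := by
    have h := Steps.two2 x (Subgroup.zpowers (x .d * x .e)) (fun i hi => hcen i (by fin_cases hi <;> decide)) (fun i hi => hsq i (by fin_cases hi <;> decide))
      (by intro i hi hle; interval_cases i <;> first | exact absurd hle (by decide) | simp [*] | rfl)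
      (by simp [val, seq])
    rw [pow_one] at h
    exact eq_one_of_mem_zpowers_cube cub.2.2.1 h (hsq 19 (by decide))
  have e15 : value x 15 = 1 := by
    have h := Steps.two3 x (Subgroup.zpowers (x .a * x .b)) (fun i hi => hcen i (by fin_cases hi <;> decide)) (fun i hi => hsq i (by fin_cases hi <;> decide))
      (by intro i hi hle; interval_cases i <;> first | exact absurd hle (by decide) | simp [*] | rfl)
      (by simp [val, seq])
    rw [pow_one] at h
    exact eq_one_of_mem_zpowers_cube cub.1 h (hsq 15 (by decide))
  have e10 : value x 10 = 1 := by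
    have h := Steps.two4 x (Subgroup.zpowers (x .a * x .b)) (fun i hi => hcen i (by fin_cases hi <;> decide)) (fun i hi => hsq i (by fin_cases hi <;> decide))
      (by intro i hi hle; interval_cases i <;> first | exact absurd hle (by decide) | simp [*] | rfl)
      (by simp [val, seq])
    rw [pow_one] at h
    exact eq_one_of_mem_zpowers_cube cub.1 h (hsq 10 (by decide))
  have e14 : value x 14 = 1 := by
    have h := Steps.two5 x (Subgroup.zpowers (x .a * x .b)) (fun i hi => hcen i (by fin_cases hi <;> decide)) (fun i hi => hsq i (by fin_cases hi <;> decide))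
      (by intro i hi hle; interval_cases i <;> first | exact absurd hle (by decide) | simp [*] | rfl)
      (by simp [val, seq])
    rw [pow_one] at h
    exact eq_one_of_mem_zpowers_cube cub.1 h (hsq 14 (by decide))
  have e13 : value x 13 = 1 := by
    have h := Steps.two6 x (Subgroup.zpowers (x .a * x .b)) (fun i hi => hcen i (by fin_cases hi <;> decide)) (fun i hi => hsq i (by fin_cases hi <;> decide))
      (by intro i hi hle; interval_cases i <;> first | exact absurd hle (by decide) | simp [*] | rfl)
      (by simp [val, seq])
    rw [pow_one] at h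
    exact eq_one_of_mem_zpowers_cube cub.1 h (hsq 13 (by decide))
  have e12 : value x 12 = 1 := by
    have h := Steps.two7 x (Subgroup.zpowers (x .d * x .e)) (fun i hi => hcen i (by fin_cases hi <;> decide)) (fun i hi => hsq i (by fin_cases hi <;> decide))
      (by intro i hi hle; interval_cases i <;> first | exact absurd hle (by decide) | simp [*] | rfl)
      (by simp [val, seq])
    rw [pow_one] at h
    exact eq_one_of_mem_zpowers_cube cub.2.2.1 h (hsq 12 (by decide))
  have e9 : value x 9 = 1 := by
    have h := Steps.two8 x (Subgroup.zpowers (x .a * x .b)) (fun i hi => hcen i (by fin_cases hi <;> decide)) (fun i hi => hsq i (by fin_cases hi <;> decide))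
      (by intro i hi hle; interval_cases i <;> first | exact absurd hle (by decide) | simp [*] | rfl)
      (by simp [val, seq])
    rw [pow_one] at h
    exact eq_one_of_mem_zpowers_cube cub.1 h (hsq 9 (by decide))
  have e16 : value x 16 = 1 := by
    have h := Steps.two9 x ⊥ (fun i hi => hcen i (by fin_cases hi <;> decide)) (fun i hi => hsq i (by fin_cases hi <;> decide))
      (by intro i hi hle; interval_cases i <;> first | exact absurd hle (by decide) | simp [*] | rfl)
      (by simp)
    simpa using h
  have e17 : value x 17 = 1 := by
    have h := Steps.two10 x ⊥ (fun i hi => hcen i (by fin_cases hi <;> decide)) (fun i hi => hsq i (by fin_cases hi <;> decide))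
      (by intro i hi hle; interval_cases i <;> first | exact absurd hle (by decide) | simp [*] | rfl)
      (by simp)
    simpa using h
  have e8 : value x 8 = 1 := by
    have h := Steps.two11 x (Subgroup.zpowers (x .a * x .b)) (fun i hi => hcen i (by fin_cases hi <;> decide)) (fun i hi => hsq i (by fin_cases hi <;> decide))
      (by intro i hi hle; interval_cases i <;> first | exact absurd hle (by decide) | simp [*] | rfl)
      (by simp [val, seq])
    rw [pow_one] at h
    exact eq_one_of_mem_zpowers_cube cub.1 h (hsq 8 (by decide))
  have e7 : value x 7 = 1 := by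
    have h := Steps.two12 x ⊥ (fun i hi => hcen i (by fin_cases hi <;> decide)) (fun i hi => hsq i (by fin_cases hi <;> decide))
      (by intro i hi hle; interval_cases i <;> first | exact absurd hle (by decide) | simp [*] | rfl)
      (by simp)
    simpa using h
  have e24 : value x 24 = 1 := by
    have h := Steps.two13 x (Subgroup.zpowers (x .d * x .e)) (fun i hi => hcen i (by fin_cases hi <;> decide)) (fun i hi => hsq i (by fin_cases hi <;> decide))
      (by intro i hi hle; interval_cases i <;> first | exact absurd hle (by decide) | simp [*] | rfl)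
      (by simp [val, seq])
    rw [pow_one] at h
    exact eq_one_of_mem_zpowers_cube cub.2.2.1 h (hsq 24 (by decide))
  have small : ∀ z ∈ Subgroup.closure ({x .a, x .b, x .d, x .e} : Set K), z ∈ σ.ker → z * z = 1 → z = 1 := by
    intro z hz hk h2
    have sqa : x .a * x .a = 1 := by simpa [value, baseWords, val, seq] using e0
    have sqb : x .b * x .b = 1 := by simpa [value, baseWords, val, seq] using e1
    have sqd : x .d * x .d = 1 := by simpa [value, baseWords, val, seq] using e3
    have sqe : x .e * x .e = 1 := by simpa [value, baseWords, val, seq] using e4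
    have cm : ∀ {p q : K}, p * p = 1 → q * q = 1 → (p * q) ^ 2 = 1 → Commute p q := fun hp hq h =>
      (ONCover.Lift.fa hp hq h).symm
    have had := cm sqa sqd (by simpa [value, baseWords, val, seq, pow_succ, mul_assoc] using e8)
    have hae := cm sqa sqe (by simpa [value, baseWords, val, seq, pow_succ, mul_assoc] using e9)
    have hbd := cm sqb sqd (by simpa [value, baseWords, val, seq, pow_succ, mul_assoc] using e12)
    have hbe := cm sqb sqe (by simpa [value, baseWords, val, seq, pow_succ, mul_assoc] using e13)
    exact eq_one_of_mem_pair σ sqa sqb sqd sqe cub.1 cub.2.2.1 had hae hbd hbe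
      (by rw [map_mul, hx, hx]; exact ab_ne_one.1) (by rw [map_mul, hx, hx]; exact ab_ne_one.2) hz hk h2
  have e23 : value x 23 = 1 := by
    have h := Steps.two14 x (Subgroup.closure {x .a, x .b, x .d, x .e}) (fun i hi => hcen i (by fin_cases hi <;> decide)) (fun i hi => hsq i (by fin_cases hi <;> decide))
      (by intro i hi hle; interval_cases i <;> first | exact absurd hle (by decide) | simp [*] | rfl)
      (by
        intro w hw
        refine Subgroup.subset_closure ?_
        fin_cases hw <;> simp [val, seq])
    rw [pow_one] at h
    exact small _ h (hmem 23 (by decide)) (hsq 23 (by decide))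
  have e22 : value x 22 = 1 := by
    have h := Steps.two15 x (Subgroup.closure {x .a, x .b, x .d, x .e}) (fun i hi => hcen i (by fin_cases hi <;> decide)) (fun i hi => hsq i (by fin_cases hi <;> decide))
      (by intro i hi hle; interval_cases i <;> first | exact absurd hle (by decide) | simp [*] | rfl)
      (by
        intro w hw
        refine Subgroup.subset_closure ?_
        fin_cases hw <;> simp [val, seq])
    rw [pow_one] at h
    exact small _ h (hmem 22 (by decide)) (hsq 22 (by decide))
  have e26 : value x 26 = 1 := by
    have h := Steps.two16 x (Subgroup.closure {x .a, x .b, x .d, x .e}) (fun i hi => hcen i (by fin_cases hi <;> decide)) (fun i hi => hsq i (by fin_cases hi <;> decide))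
      (by intro i hi hle; interval_cases i <;> first | exact absurd hle (by decide) | simp [*] | rfl)
      (by
        intro w hw
        refine Subgroup.subset_closure ?_
        fin_cases hw <;> simp [val, seq])
    rw [pow_one] at h
    exact small _ h (hmem 26 (by decide)) (hsq 26 (by decide))
  refine ker_eq_bot_of_rels σ hc hperf x hx (rels_of_values x fun i hi => ?_)
  interval_cases i <;> assumption

end Cfsg.Agent.Lib.ONMult
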