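import Cfsg.Agent.Lib.ON45.Cover
import Cfsg.Agent.Lib.ONCover.Main
import Cfsg.Agent.Lib.ONMult.Nondeg
import Cfsg.Agent.Lib.ONMult.Odd
import Cfsg.Agent.Lib.ONMult.Two

/-!
# The multiplier of the presented O'Nan group is cyclic of order three
-/

set_option autoImplicit false

namespace Cfsg.Agent.Lib.ONMult

open Cfsg.Spor

variable {Γ : Type} [Group Γ]

/-- A stem extension of the presented O'Nan group is perfect. -/
theorem stem_perfect {σ : Γ →* ON} (hs : Function.Surjective σ) (hcm : σ.ker ≤ commutator Γ) :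
    commutator Γ = ⊤ := by
  have hmap : (commutator Γ).map σ = ⊤ := by
    rw [commutator_def, Subgroup.map_commutator, Subgroup.map_top_of_surjective σ hs, ← commutator_def,
      commutator_ON]
  rw [eq_top_iff]
  intro x _
  obtain ⟨y, hy, hxy⟩ := hmap.ge (Subgroup.mem_top (σ x))
  have h : x * y⁻¹ ∈ σ.ker := by rw [MonoidHom.mem_ker, map_mul, map_inv, hxy, mul_inv_cancel]
  simpa using mul_mem (hcm h) hy

variable [Finite Γ]

/-- Three is the only prime dividing the order of the kernel of a perfect central extension. -/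
theorem prime_dvd_ker {σ : Γ →* ON} (hs : Function.Surjective σ) (hc : σ.ker ≤ Subgroup.center Γ)
    (hperf : commutator Γ = ⊤) {p : ℕ} (hp : p.Prime) (hd : p ∣ Nat.card σ.ker) : p = 3 := by
  by_contra h3
  have : Fact p.Prime := ⟨hp⟩
  let B : Subgroup Γ :=
    { carrier := {y | ∃ x ∈ σ.ker, x ^ p = y}
      one_mem' := ⟨1, one_mem _, one_pow p⟩
      mul_mem' := fun ⟨a, ha, ea⟩ ⟨b, hb, eb⟩ => ⟨a * b, mul_mem ha hb, by
        rw [(show Commute a b from (Subgroup.mem_center_iff.mp (hc ha) b).symm).mul_pow, ea, eb]⟩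
      inv_mem' := fun ⟨a, ha, ea⟩ => ⟨a⁻¹, inv_mem ha, by rw [inv_pow, ea]⟩ }
  have hB : B ≤ σ.ker := fun y ⟨x, hx, e⟩ => e ▸ pow_mem hx p
  have : B.Normal := Subgroup.Normal.mk fun y hy g => by
    rw [Subgroup.mem_center_iff.mp (hc (hB hy)) g, mul_inv_cancel_right]
    exact hy
  let τ : Γ ⧸ B →* ON := QuotientGroup.lift B σ hB
  have hτ : Function.Surjective τ := fun y => (hs y).elim fun x hx => ⟨x, hx⟩
  have hker : ∀ a ∈ τ.ker, ∃ x ∈ σ.ker, (x : Γ ⧸ B) = a := by
    intro a ha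
    obtain ⟨x, rfl⟩ := QuotientGroup.mk_surjective a
    exact ⟨x, ha, rfl⟩
  have hτc : τ.ker ≤ Subgroup.center (Γ ⧸ B) := fun a ha => by
    obtain ⟨x, hx, rfl⟩ := hker a ha
    refine Subgroup.mem_center_iff.mpr fun b => ?_
    obtain ⟨y, rfl⟩ := QuotientGroup.mk_surjective b
    rw [← QuotientGroup.mk_mul, Subgroup.mem_center_iff.mp (hc hx) y, QuotientGroup.mk_mul]
  have hτperf : commutator (Γ ⧸ B) = ⊤ := by
    rw [← Subgroup.map_top_of_surjective (QuotientGroup.mk' B) (QuotientGroup.mk'_surjective B), ← hperf,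
      commutator_def, commutator_def, Subgroup.map_commutator,
      Subgroup.map_top_of_surjective (QuotientGroup.mk' B) (QuotientGroup.mk'_surjective B)]
  have hexp : ∀ a ∈ τ.ker, a ^ p = 1 := fun a ha => by
    obtain ⟨x, hx, rfl⟩ := hker a ha
    rw [← QuotientGroup.mk_pow, QuotientGroup.eq_one_iff]
    exact ⟨x, hx, rfl⟩
  have hbot : τ.ker = ⊥ := by
    by_cases h2 : p = 2
    · subst h2
      exact ker_eq_bot_of_two τ hτ hτc hτperf fun a ha => by rw [← pow_two]; exact hexp a ha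
    · exact ker_eq_bot_of_coprime_six τ hτ hτc hτperf p hp h2 h3 hexp
  let f : σ.ker → σ.ker := fun x => x ^ p
  have hsurj : Function.Surjective f := fun y => by
    have hy : ((y : Γ) : Γ ⧸ B) ∈ τ.ker := y.2
    rw [hbot, Subgroup.mem_bot, QuotientGroup.eq_one_iff] at hy
    obtain ⟨x, hx, e⟩ := hy
    exact ⟨⟨x, hx⟩, Subtype.ext e⟩
  obtain ⟨x, hx⟩ := exists_prime_orderOf_dvd_card' p hd
  have e : x = 1 := (Finite.injective_iff_surjective.mpr hsurj) (show x ^ p = 1 ^ p by
    rw [one_pow, ← hx, pow_orderOf_eq_one])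
  rw [e, orderOf_one] at hx
  exact hp.one_lt.ne hx

/-- The kernel of a stem extension of the presented O'Nan group has order one or three. -/
theorem card_ker_cases {σ : Γ →* ON} (hs : Function.Surjective σ) (hc : σ.ker ≤ Subgroup.center Γ)
    (hperf : commutator Γ = ⊤) : Nat.card σ.ker = 1 ∨ Nat.card σ.ker = 3 := by
  have : Fact (Nat.Prime 3) := ⟨Nat.prime_three⟩
  have hk := Nat.eq_prime_pow_of_unique_prime_dvd (Nat.card_pos (α := σ.ker)).ne'
    (fun {d} hd hdd => prime_dvd_ker hs hc hperf hd hdd)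
  have hle := ONCover.card_ker_le_three σ hs (IsPGroup.of_card hk) hc hperf
  obtain ⟨n, hn⟩ : ∃ n, Nat.card σ.ker = 3 ^ n := ⟨_, hk⟩
  rcases n with _ | _ | n
  · exact Or.inl (by simpa using hn)
  · exact Or.inr (by simpa using hn)
  · exfalso
    rw [hn] at hle
    have : 3 ^ 2 ≤ 3 ^ (n + 1 + 1) := Nat.pow_le_pow_right (by decide) (by omega)
    omega

omit [Finite Γ] in
/-- The multiplier of the presented O'Nan group is cyclic of order three. -/
theorem multiplier [Finite ON] : Cfsg.HasCyclicSchurMultiplier ON 3 := by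
  refine ⟨ON45.exists_stem, ?_⟩
  intro Δ _ _ σ hσ
  obtain ⟨hs, hc, hcm⟩ := hσ
  rcases card_ker_cases hs hc (stem_perfect hs hcm) with h | h
  · exact ⟨1, fun y => ⟨1, ((Nat.card_eq_one_iff_unique.mp h).1).elim _ _⟩⟩
  · have : Fact (Nat.Prime 3) := ⟨Nat.prime_three⟩
    have : IsCyclic σ.ker := isCyclic_of_prime_card h
    have e := mulEquivOfCyclicCardEq (G := Multiplicative (ZMod 3)) (G' := σ.ker) (by rw [h]; exact Nat.card_zmod 3)
    exact ⟨e.toMonoidHom, e.surjective⟩

end Cfsg.Agent.Lib.ONMult
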