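import Cfsg.Agent.Lib.ONMult.Odd7Data0

/-!
# Enumeration certificate check, a part
-/

set_option autoImplicit false
set_option linter.all false

namespace Cfsg.Agent.Lib.ONMult.Odd7

theorem steps0 : rangeOK cert 0 1000 = true := by decide +kernel

theorem steps1 : rangeOK cert 1000 1000 = true := by decide +kernel

theorem steps2 : rangeOK cert 2000 1000 = true := by decide +kernel

theorem steps3 : rangeOK cert 3000 1000 = true := by decide +kernel

theorem steps4 : rangeOK cert 4000 297 = true := by decide +kernel

end Cfsg.Agent.Lib.ONMult.Odd7
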