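import Cfsg.Agent.Lib.ONMult.Check

/-!
# Certificates over the relators of the O'Nan presentation twisted by central parameters

Letters: `0` is the target, `2, …, 2n` the parameters, and from `2(n+1)` on the seven generators.
-/

set_option autoImplicit false

namespace Cfsg.Agent.Lib.ONMult

/-- The relators over the letters `a, …, g` numbered `0, 2, …, 12`, and the fourth power of `g`. -/
def baseWords : List (List ℕ) :=
  [[0, 0], [2, 2], [4, 4], [6, 6], [8, 8], [10, 10], [0, 2, 0, 2, 0, 2], [0, 4, 0, 4], [0, 6, 0, 6], [0, 8, 0, 8],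
   [0, 10, 0, 10], [2, 4, 2, 4, 2, 4], [2, 6, 2, 6], [2, 8, 2, 8], [2, 10, 2, 10],
   [4, 6, 4, 6, 4, 6, 4, 6, 4, 6, 4, 6, 4, 6, 4, 6], [4, 8, 4, 8], [4, 10, 4, 10], [6, 8, 6, 8, 6, 8],
   [6, 10, 6, 10], [8, 10, 8, 10, 8, 10], [0, 10, 13, 13], [0, 10, 7, 5, 7, 5, 7, 5, 7, 5],
   [4, 13, 7, 13, 7, 4, 6, 12, 6, 12], [6, 13, 5, 13, 5, 6, 4, 12, 4, 12],
   [2, 4, 6, 12, 2, 4, 6, 12, 2, 4, 6, 12, 2, 4, 6, 12, 2, 4, 6, 12],
   [12, 2, 5, 12, 4, 3, 12, 2, 5, 12, 4], [12, 8, 7, 12, 6, 9, 12, 8, 7, 12, 6], [12, 12, 12, 12]]

/-- The letters of a list of elements. -/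
def val {E : Type*} [Group E] (L : List E) (x : ℕ) : E :=
  if x % 2 = 0 then L.getD (x / 2) 1 else (L.getD (x / 2) 1)⁻¹

/-- The words a certificate may use: `n` parameters, the parameter of each relator (`0`: trivial, `n + 1` and
above: relator not available), the power taken of the first parameter, and whether parameters square to one. -/
def okRel (n : ℕ) (cls : List ℕ) (k : ℕ) (sq : Bool) (w : List ℕ) : Bool :=
  let off := 2 * (n + 1)
  ((List.range 29).any fun i =>
      let c := cls.getD i (n + 1)
      decide (c ≤ n) &&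
        decide (w = (baseWords.getD i []).map (· + off) ++ (if c = 0 then [] else [2 * c + 1]))) ||
    decide (w = 0 :: List.replicate k 3) ||
    (sq && (List.range n).any fun p => decide (w = [2 * (p + 1), 2 * (p + 1)])) ||
    ((List.range n).any fun p => (List.range (n + 8)).any fun t =>
      decide (w = [2 * (p + 1) + 1, 2 * t + 1, 2 * (p + 1), 2 * t])) ||
    (List.range (2 * (n + 8))).any fun x => decide (w = [x, linv x])

variable {E : Type*} [Group E]

theorem val_linv (L : List E) (x : ℕ) : val L x * val L (linv x) = 1 := by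
  have e : linv x = if x % 2 = 0 then x + 1 else x - 1 := by
    show x ^^^ 1 = _
    rcases Nat.even_or_odd x with h | h
    · rw [Nat.xor_one_of_even h, if_pos (Nat.even_iff.mp h)]
    · rw [Nat.xor_one_of_odd h, if_neg (by rw [Nat.odd_iff.mp h]; decide)]
  rcases (show x % 2 = 0 ∨ x % 2 = 1 by omega) with h | h
  · rw [e, if_pos h, val, val, if_pos h, if_neg (by omega), show (x + 1) / 2 = x / 2 by omega, mul_inv_cancel]
  · rw [e, if_neg (by omega), val, val, if_neg (by omega), if_pos (by omega), show (x - 1) / 2 = x / 2 by omega,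
      inv_mul_cancel]

theorem val_odd (L : List E) (j : ℕ) : val L (2 * j + 1) = (val L (2 * j))⁻¹ := by
  rw [val, val, if_neg (by omega), if_pos (by omega), show (2 * j + 1) / 2 = 2 * j / 2 by omega]

theorem val_even (L : List E) (j : ℕ) : val L (2 * j) = L.getD j 1 := by
  rw [val, if_pos (by omega), show 2 * j / 2 = j by omega]

variable (y : E) (vals seven : List E)

theorem val_shift (x : ℕ) : val (y :: vals ++ seven) (x + 2 * (vals.length + 1)) = val seven x := by
  have h : (y :: vals ++ seven).getD (x / 2 + (vals.length + 1)) 1 = seven.getD (x / 2) 1 := by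
    rw [List.getD_append_right _ _ _ _ (by simp), List.length_cons, Nat.add_sub_cancel]
  have hd : (x + 2 * (vals.length + 1)) / 2 = x / 2 + (vals.length + 1) := by omega
  have hm : (x + 2 * (vals.length + 1)) % 2 = x % 2 := by omega
  rw [val, val, hd, hm, h]

theorem val_param (j : ℕ) (hj : j < vals.length) : val (y :: vals ++ seven) (2 * (j + 1)) = vals.getD j 1 := by
  rw [val_even, List.cons_append, List.getD_cons_succ, List.getD_append _ _ _ _ hj]

theorem val_target : val (y :: vals ++ seven) 0 = y := by
  rw [show (0 : ℕ) = 2 * 0 from rfl, val_even, List.cons_append, List.getD_cons_zero]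

/-- What a certificate proves: the power of the first parameter lies in the subgroup. -/
theorem Done.mem_of_relations {C : Cert} (hD : Done C [0]) (cls : List ℕ) (k : ℕ) (sq : Bool) (subs : List (List ℕ))
    (hC : C.W.all (okRel vals.length cls k sq) = true)
    (hCS : C.S = subs.map fun w => w.map (· + 2 * (vals.length + 1)))
    (hpos : 0 < vals.length) (hy : y = vals.getD 0 1 ^ k)
    (hcen : ∀ v ∈ vals, v ∈ Subgroup.center E)
    (hsq : sq = true → ∀ v ∈ vals, v * v = 1)
    (hrel : ∀ i < 29, cls.getD i (vals.length + 1) ≤ vals.length →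
      ((baseWords.getD i []).map (val seven)).prod = (1 :: vals).getD (cls.getD i (vals.length + 1)) 1)
    (H : Subgroup E) (hS : ∀ w ∈ subs, (w.map (val seven)).prod ∈ H) : y ∈ H := by
  set L := y :: vals ++ seven with hL
  have shift : ∀ w : List ℕ, ((w.map (· + 2 * (vals.length + 1))).map (val L)).prod = (w.map (val seven)).prod := by
    intro w
    rw [List.map_map]
    congr 1
    exact List.map_congr_left fun x _ => val_shift y vals seven x
  have hW : ∀ w ∈ C.W, (w.map (val L)).prod = 1 := by
    intro w hw
    have h := List.all_eq_true.mp hC w hw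
    simp only [okRel, Bool.or_eq_true, List.any_eq_true, List.mem_range, Bool.and_eq_true, decide_eq_true_eq] at h
    rcases h with (((⟨i, hi, hc, rfl⟩ | rfl) | ⟨hs, p, hp, rfl⟩) | ⟨p, hp, t, -, rfl⟩) | ⟨x, -, rfl⟩
    · rw [List.map_append, List.prod_append, shift, hrel i hi hc]
      split
      · next h0 => rw [h0]; simp
      · next h0 =>
        obtain ⟨j, hj⟩ : ∃ j, cls.getD i (vals.length + 1) = j + 1 := ⟨_, (Nat.succ_pred_eq_of_ne_zero h0).symm⟩
        rw [hj] at hc ⊢
        rw [List.map_cons, List.map_nil, List.prod_singleton, val_odd, hL, val_param y vals seven j (by omega),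
          List.getD_cons_succ, mul_inv_cancel]
    · rw [List.map_cons, List.prod_cons, List.map_replicate, List.prod_replicate, show (3 : ℕ) = 2 * 1 + 1 from rfl,
        val_odd, hL, val_target, show (2 * 1 : ℕ) = 2 * (0 + 1) from rfl, val_param y vals seven 0 hpos, hy,
        inv_pow, mul_inv_cancel]
    · rw [List.map_cons, List.map_cons, List.map_nil, List.prod_cons, List.prod_cons, List.prod_nil, mul_one,
        hL, val_param y vals seven p hp]
      refine hsq hs _ ?_
      rw [List.getD_eq_getElem _ _ hp]
      exact List.getElem_mem hp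
    · have hc : vals.getD p 1 ∈ Subgroup.center E := by
        rw [List.getD_eq_getElem _ _ hp]
        exact hcen _ (List.getElem_mem hp)
      rw [List.map_cons, List.map_cons, List.map_cons, List.map_cons, List.map_nil, List.prod_cons, List.prod_cons,
        List.prod_cons, List.prod_singleton, val_odd, val_odd, hL, val_param y vals seven p hp]
      rw [← mul_assoc ((val (y :: vals ++ seven) (2 * t))⁻¹),
        Subgroup.mem_center_iff.mp hc ((val (y :: vals ++ seven) (2 * t))⁻¹), mul_assoc, inv_mul_cancel, mul_one,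
        inv_mul_cancel]
    · rw [List.map_cons, List.map_cons, List.map_nil, List.prod_cons, List.prod_singleton, val_linv]
  have h := hD.prod_mem (val L) (val_linv L) hW H (fun w hw => by
    rw [hCS, List.mem_map] at hw
    obtain ⟨u, hu, rfl⟩ := hw
    rw [shift]
    exact hS u hu)
  rwa [List.map_cons, List.map_nil, List.prod_singleton, hL, val_target] at h

end Cfsg.Agent.Lib.ONMult
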