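import Cfsg.Agent.Lib.ONMult.Nondeg

/-!
# Small subgroups meeting a central kernel trivially, and normalised lifts
-/

set_option autoImplicit false

namespace Cfsg.Agent.Lib.ONMult

open Cfsg.Spor

universe u

variable {K : Type u} [Group K]

theorem eq_one_of_sq_of_cube {a : K} (h2 : a * a = 1) (h3 : a ^ 3 = 1) : a = 1 := by
  rwa [pow_succ, pow_two, h2, one_mul] at h3

theorem eq_one_of_mem_zpowers_cube {a u : K} (hu : u ^ 3 = 1) (ha : a ∈ Subgroup.zpowers u) (h2 : a * a = 1) :
    a = 1 := by
  obtain ⟨n, rfl⟩ := Subgroup.mem_zpowers_iff.mp ha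
  refine eq_one_of_sq_of_cube h2 ?_
  rw [← zpow_natCast, zpow_comm, zpow_natCast, hu, one_zpow]

/-- Two elements whose product has order dividing three have the same square, when squares are central and of order two. -/
theorem sq_eq_sq {u v : K} (h3 : (u * v) ^ 3 = 1) (hu : ∀ w, u * u * w = w * (u * u))
    (hv : ∀ w, v * v * w = w * (v * v)) (hu2 : u * u * (u * u) = 1) (hv2 : v * v * (v * v) = 1) :
    v * v = u * u := by
  have hq : v * u * v = (u * v * u)⁻¹ := by
    refine eq_inv_of_mul_eq_one_right ?_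
    rw [← h3]
    simp [pow_succ, mul_assoc]
  have e1 : (v * u * v) * (v * u * v) = u * u := by
    calc (v * u * v) * (v * u * v) = v * u * (v * v * u) * v := by group
      _ = v * u * (u * (v * v)) * v := by rw [hv]
      _ = v * (u * u) * (v * v * v) := by group
      _ = v * (u * u) * (v * (v * v)) := by rw [hv]
      _ = v * ((u * u) * v) * (v * v) := by group
      _ = v * (v * (u * u)) * (v * v) := by rw [hu]
      _ = (v * v) * ((u * u) * (v * v)) := by group
      _ = (v * v) * ((v * v) * (u * u)) := by rw [hu]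
      _ = (v * v * (v * v)) * (u * u) := by group
      _ = u * u := by rw [hv2, one_mul]
  have e2 : (u * v * u) * (u * v * u) = v * v := by
    calc (u * v * u) * (u * v * u) = u * v * (u * u * v) * u := by group
      _ = u * v * (v * (u * u)) * u := by rw [hu]
      _ = u * (v * v) * (u * u * u) := by group
      _ = u * (v * v) * (u * (u * u)) := by rw [hu]
      _ = u * ((v * v) * u) * (u * u) := by group
      _ = u * (u * (v * v)) * (u * u) := by rw [hv]
      _ = (u * u) * ((v * v) * (u * u)) := by group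
      _ = (u * u) * ((u * u) * (v * v)) := by rw [hv]
      _ = (u * u * (u * u)) * (v * v) := by group
      _ = v * v := by rw [hu2, one_mul]
  have : u * u = (v * v)⁻¹ := by rw [← e1, ← e2, hq]; group
  rw [this]
  exact eq_inv_of_mul_eq_one_right hv2

/-- The elements of the group of two involutions whose product has order three. -/
theorem mem_dihedral {a b : K} (ha : a * a = 1) (hb : b * b = 1) (hs : (a * b) ^ 3 = 1) {p : K}
    (hp : p ∈ Subgroup.closure ({a, b} : Set K)) : ∃ i : ℕ, p = (a * b) ^ i ∨ p = a * (a * b) ^ i := by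
  obtain ⟨s, hs'⟩ : ∃ s, s = a * b := ⟨_, rfl⟩
  rw [← hs'] at hs ⊢
  have hsa : s * a = a * (s * s) := by
    have hba : (a * b)⁻¹ = b * a := by
      rw [mul_inv_rev, inv_eq_of_mul_eq_one_right ha, inv_eq_of_mul_eq_one_right hb]
    have hss : s * s = s⁻¹ := eq_inv_of_mul_eq_one_left (by rw [← hs]; simp [pow_succ, mul_assoc])
    rw [hss, hs', hba, mul_assoc]
  have swap : ∀ i : ℕ, s ^ i * a = a * s ^ (2 * i) := by
    intro i
    induction i with
    | zero => simp
    | succ i ih =>
      rw [pow_succ, mul_assoc, hsa, ← mul_assoc, ih, mul_assoc, ← pow_two, ← pow_add, mul_add, mul_one]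
  have h3 : ∀ i : ℕ, s ^ (3 * i) = 1 := fun i => by rw [pow_mul, hs, one_pow]
  induction hp using Subgroup.closure_induction with
  | mem y hy =>
    rcases hy with rfl | rfl
    · exact ⟨0, Or.inr (by simp)⟩
    · exact ⟨1, Or.inr (by rw [pow_one, hs', ← mul_assoc, ha, one_mul])⟩
  | one => exact ⟨0, Or.inl (by simp)⟩
  | mul p q _ _ hp hq =>
    obtain ⟨i, rfl | rfl⟩ := hp <;> obtain ⟨j, rfl | rfl⟩ := hq
    · exact ⟨i + j, Or.inl (pow_add s i j).symm⟩
    · exact ⟨2 * i + j, Or.inr (by rw [← mul_assoc, swap, mul_assoc, pow_add])⟩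
    · exact ⟨i + j, Or.inr (by rw [mul_assoc, pow_add])⟩
    · exact ⟨2 * i + j, Or.inl (by
        rw [mul_assoc a, ← mul_assoc (s ^ i), swap, mul_assoc, ← mul_assoc, ha, one_mul, pow_add])⟩
  | inv p _ hp =>
    obtain ⟨i, rfl | rfl⟩ := hp
    · exact ⟨2 * i, Or.inl (inv_eq_of_mul_eq_one_right (by
        rw [← pow_add, show i + 2 * i = 3 * i by ring, h3]))⟩
    · exact ⟨i, Or.inr (inv_eq_of_mul_eq_one_right (by
        rw [mul_assoc, ← mul_assoc (s ^ i), swap, mul_assoc, ← mul_assoc, ha, one_mul, ← pow_add,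
          show 2 * i + i = 3 * i by ring, h3]))⟩

/-- A central element of order two in a product of two commuting such groups, trivial in a quotient where
neither product collapses, is trivial. -/
theorem eq_one_of_mem_pair {G : Type*} [Group G] (σ : K →* G) {a b d e z : K}
    (ha : a * a = 1) (hb : b * b = 1) (hd : d * d = 1) (he : e * e = 1) (hs : (a * b) ^ 3 = 1) (ht : (d * e) ^ 3 = 1)
    (had : Commute a d) (hae : Commute a e) (hbd : Commute b d) (hbe : Commute b e)
    (hs1 : σ (a * b) ≠ 1) (ht1 : σ (d * e) ≠ 1)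
    (hz : z ∈ Subgroup.closure ({a, b, d, e} : Set K)) (hσz : σ z = 1) (h2 : z * z = 1) : z = 1 := by
  set A := Subgroup.closure ({a, b} : Set K)
  set D := Subgroup.closure ({d, e} : Set K)
  have hcomm : ∀ p ∈ A, ∀ q ∈ D, Commute p q := by
    intro p hp
    induction hp using Subgroup.closure_induction with
    | mem y hy =>
      intro q hq
      induction hq using Subgroup.closure_induction with
      | mem w hw => rcases hy with rfl | rfl <;> rcases hw with rfl | rfl <;> assumption
      | one => exact Commute.one_right _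
      | mul _ _ _ _ h h' => exact h.mul_right h'
      | inv _ _ h => exact h.inv_right
    | one => exact fun q _ => Commute.one_left q
    | mul _ _ _ _ h h' => exact fun q hq => (h q hq).mul_left (h' q hq)
    | inv _ _ h => exact fun q hq => (h q hq).inv_left
  have hdec : ∃ p ∈ A, ∃ q ∈ D, z = p * q := by
    clear hσz h2
    induction hz using Subgroup.closure_induction with
    | mem y hy =>
      rcases hy with rfl | rfl | rfl | rfl
      exacts [⟨_, Subgroup.subset_closure (by simp), 1, one_mem _, (mul_one _).symm⟩,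
        ⟨_, Subgroup.subset_closure (by simp), 1, one_mem _, (mul_one _).symm⟩,
        ⟨1, one_mem _, _, Subgroup.subset_closure (by simp), (one_mul _).symm⟩,
        ⟨1, one_mem _, _, Subgroup.subset_closure (by simp), (one_mul _).symm⟩]
    | one => exact ⟨1, one_mem _, 1, one_mem _, (one_mul _).symm⟩
    | mul x y _ _ hx hy =>
      obtain ⟨p, hp, q, hq, rfl⟩ := hx
      obtain ⟨p', hp', q', hq', rfl⟩ := hy
      refine ⟨p * p', mul_mem hp hp', q * q', mul_mem hq hq', ?_⟩
      rw [mul_assoc p q, ← mul_assoc q p', ← (hcomm p' hp' q hq).eq, mul_assoc p' q, mul_assoc p p']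
    | inv x _ hx =>
      obtain ⟨p, hp, q, hq, rfl⟩ := hx
      exact ⟨p⁻¹, inv_mem hp, q⁻¹, inv_mem hq, by
        rw [mul_inv_rev, ← ((hcomm p hp q hq).inv_inv).eq]⟩
  obtain ⟨p, hp, q, hq, rfl⟩ := hdec
  have hpq : σ q = (σ p)⁻¹ := eq_inv_of_mul_eq_one_right (by rw [← map_mul]; exact hσz)
  have key : ∀ {x y w : K}, x * x = 1 → y * y = 1 → (x * y) ^ 3 = 1 → σ (x * y) ≠ 1 →
      ∀ i, w = x * (x * y) ^ i → Commute (σ w) (σ (x * y)) → False := by
    intro x y w hx hy h3 h1 i hw hcw
    obtain ⟨u, hu⟩ : ∃ u, u = x * y := ⟨_, rfl⟩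
    rw [← hu] at h3 h1 hw hcw
    have hc : Commute (σ x) (σ u) := by
      have hx' : σ x = σ w * (σ u ^ i)⁻¹ := by
        rw [hw, map_mul, map_pow, mul_inv_cancel_right]
      rw [hx']
      exact hcw.mul_left ((Commute.self_pow (σ u) i).symm.inv_left)
    have hxu : x * u * x = u * u := by
      have : u * u = u⁻¹ := eq_inv_of_mul_eq_one_left (by rw [← h3]; simp [pow_succ, mul_assoc])
      rw [this, hu, mul_inv_rev, inv_eq_of_mul_eq_one_right hx, inv_eq_of_mul_eq_one_right hy, ← mul_assoc, hx,
        one_mul]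
    have := congrArg σ hxu
    rw [map_mul, map_mul, hc.eq, mul_assoc, ← map_mul σ x x, hx, map_one, mul_one, map_mul] at this
    exact h1 (mul_eq_left.mp this.symm)
  obtain ⟨i, rfl | hp'⟩ := mem_dihedral ha hb hs hp
  · obtain ⟨j, rfl | hq'⟩ := mem_dihedral hd he ht hq
    · refine eq_one_of_sq_of_cube h2 ?_
      rw [(hcomm _ hp _ hq).mul_pow, ← pow_mul, ← pow_mul, Nat.mul_comm i, Nat.mul_comm j, pow_mul, pow_mul, hs, ht,
        one_pow, one_pow, one_mul]
    · refine absurd (key hd he ht ht1 j hq' ?_) id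
      rw [hpq]
      exact ((hcomm _ hp (d * e) (mul_mem (Subgroup.subset_closure (by simp)) (Subgroup.subset_closure (by simp)))).map σ).inv_left
  · refine absurd (key ha hb hs hs1 i hp' ?_) id
    have hp2 : σ p = (σ q)⁻¹ := by rw [hpq, inv_inv]
    rw [hp2]
    exact ((hcomm (a * b) (mul_mem (Subgroup.subset_closure (by simp)) (Subgroup.subset_closure (by simp))) _ hq).map σ).symm.inv_left

theorem value_map {L : Type*} [Group L] (φ : L →* K) (c : ON.Gen → L) (i : ℕ) :
    value (fun s => φ (c s)) i = φ (value c i) := by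
  rw [value_eq, value_eq, ← MonoidHom.comp_apply φ]
  congr 1
  exact FreeGroup.ext_hom _ _ fun s => by simp

theorem value_mul_central (y c : ON.Gen → K) (hc : ∀ s, c s ∈ Subgroup.center K) (i : ℕ) :
    value (fun s => y s * c s) i = value y i * value c i := by
  have hcw : ∀ w, FreeGroup.lift c w ∈ Subgroup.center K := fun w => by
    have : (FreeGroup.lift c).range ≤ Subgroup.center K :=
      FreeGroup.range_lift_le (by rintro _ ⟨s, rfl⟩; exact hc s)
    exact this ⟨w, rfl⟩
  let ψ : FreeGroup ON.Gen →* K :=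
    { toFun := fun w => FreeGroup.lift y w * FreeGroup.lift c w
      map_one' := by simp
      map_mul' := fun v w => by
        rw [map_mul, map_mul, mul_assoc (FreeGroup.lift y v), ← mul_assoc (FreeGroup.lift y w),
          Subgroup.mem_center_iff.mp (hcw v), mul_assoc, ← mul_assoc (FreeGroup.lift y v)] }
  have : FreeGroup.lift (fun s => y s * c s) = ψ := FreeGroup.ext_hom _ _ fun s => by simp [ψ]
  rw [value_eq, value_eq, value_eq, this]
  rfl

/-- The corrections that make seven relators exact. -/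
theorem correction {Z : Type*} [CommGroup Z] (h2 : ∀ u : Z, u * u = 1) (t : ℕ → Z) :
    ∃ c : ON.Gen → Z, ∀ i ∈ ([6, 11, 18, 20, 21, 25, 27] : List ℕ), t i * value c i = 1 := by
  let D := t 27 * t 18
  let A := t 21 * t 18 * t 20 * D
  refine ⟨fun
    | .a => A | .b => t 6 * A | .c => t 6 * t 11 * A
    | .d => D | .e => t 18 * D | .f => t 18 * t 20 * D | .g => t 25 * t 11 * D, ?_⟩
  have h2' : ∀ u w : Z, u * (u * w) = w := fun u w => by rw [← mul_assoc, h2, one_mul]
  have hi : ∀ u : Z, u⁻¹ = u := fun u => inv_eq_of_mul_eq_one_right (h2 u)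
  intro i hm
  fin_cases hm <;> simp [value, baseWords, val, seq, A, D, hi, h2, h2', mul_comm, mul_left_comm]

end Cfsg.Agent.Lib.ONMult
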