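import Cfsg.Agent.Lib.ONMult.Two3Data0

/-!
# Enumeration certificate check, a part
-/

set_option autoImplicit false
set_option linter.all false

namespace Cfsg.Agent.Lib.ONMult.Two3

theorem steps0 : rangeOK cert 0 323 = true := by decide +kernel

end Cfsg.Agent.Lib.ONMult.Two3
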